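import Cfsg.Agent.Lib.Recognition.FiveOrbits.Mixed.Strong

/-!
# The `q`-cores of involution centralisers in the mixed case
-/

set_option autoImplicit false
set_option linter.unusedSectionVars false

open Subgroup

namespace CfsgLib.Recognition.FiveOrbits

open CfsgLib.Involution.Dihedral CfsgLib.Involution.Basic CfsgLib.Solvable

/-- In a `{2,q}`-group with abelian Sylow 2-subgroup `E` the subgroup `E O_q` is normal. -/
theorem sylow_sup_pCore_normal {X : Type*} [Group X] [Finite X] {q : ℕ} [Fact q.Prime]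
    (hq2 : q ≠ 2) (hcard : ∀ p : ℕ, p.Prime → p ∣ Nat.card X → p = 2 ∨ p = q) (E : Sylow 2 X)
    (hE : ∀ x ∈ E, ∀ y ∈ E, x * y = y * x) : ((E : Subgroup X) ⊔ Cfsg.pCore q X).Normal := by
  classical
  haveI : Fact (Nat.Prime 2) := ⟨Nat.prime_two⟩
  set Q := Cfsg.pCore q X with hQ
  set π := QuotientGroup.mk' Q with hπ
  haveI : Group.IsSolvable X := by
    refine isSolvable_of_card_primeFactors ((Finset.card_le_card (t := {2, q}) fun p hp => ?_).trans
      Finset.card_le_two)
    simpa using hcard p (Nat.prime_of_mem_primeFactors hp) (Nat.dvd_of_mem_primeFactors hp)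
  haveI : Group.IsSolvable (X ⧸ Q) :=
    Group.isSolvable_of_surjective (f := π) (QuotientGroup.mk'_surjective Q)
  have hO : Cfsg.pPrimeCore 2 (X ⧸ Q) = ⊥ := by
    set O := Cfsg.pPrimeCore 2 (X ⧸ Q) with hO
    haveI : (O.comap π).Normal := Normal.comap inferInstance _
    have hp : IsPGroup q (O.comap π) := by
      refine IsPGroup.of_card (n := (Nat.card (O.comap π)).primeFactorsList.length)
        (Nat.eq_prime_pow_of_unique_prime_dvd Nat.card_pos.ne' fun {p} hp hd => ?_)
      rcases hcard p hp (hd.trans (card_subgroup_dvd_card _)) with rfl | rfl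
      · exfalso
        haveI : Fact (Nat.Prime 2) := ⟨hp⟩
        obtain ⟨z, hz⟩ := exists_prime_orderOf_dvd_card' (G := (O.comap π)) 2 hd
        rw [← Subgroup.orderOf_coe] at hz
        have h1 : orderOf (π z) ∣ 2 := hz ▸ orderOf_map_dvd π _
        rcases (Nat.dvd_prime Nat.prime_two).1 h1 with h2 | h2
        · have h3 : (z : X) ∈ Q := (QuotientGroup.eq_one_iff _).1 (orderOf_eq_one_iff.1 h2)
          obtain ⟨k, hk⟩ := IsPGroup.iff_orderOf.1 (Cores.isPGroup_pCore q) ⟨_, h3⟩
          rw [Subgroup.orderOf_mk, hz] at hk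
          rcases Nat.eq_zero_or_pos k with rfl | hk0
          · simp at hk
          · have h4 := (Nat.prime_dvd_prime_iff_eq (Fact.out : q.Prime) Nat.prime_two).1
              (hk ▸ dvd_pow_self q hk0.ne')
            exact hq2 h4
        · have h5 := O.orderOf_dvd_natCard (z.2 : π z ∈ O)
          rw [h2] at h5
          exact absurd ((Cores.coprime_card_pPrimeCore (G := X ⧸ Q) 2).symm.eq_one_of_dvd h5)
            (by norm_num)
      · rfl
    have h1 : O.comap π ≤ Q := Cores.le_pCore hp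
    rw [eq_bot_iff]
    intro y hy
    obtain ⟨x, rfl⟩ := QuotientGroup.mk'_surjective Q y
    exact mem_bot.2 ((QuotientGroup.eq_one_iff _).2 (h1 hy))
  let Eb : Sylow 2 (X ⧸ Q) := E.mapSurjective (f := π) (QuotientGroup.mk'_surjective Q)
  have hC := Cores.centralizer_fittingSubgroup_le (G := X ⧸ Q)
  rw [Cores.fittingSubgroup_eq_pCore 2 hO] at hC
  have hEb : (Eb : Subgroup (X ⧸ Q)) = (E : Subgroup X).map π := Sylow.coe_mapSurjective _ _
  have hle : (Eb : Subgroup (X ⧸ Q)) ≤ Cfsg.pCore 2 (X ⧸ Q) := by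
    refine le_trans ?_ hC
    intro a ha b hb
    have hb' : b ∈ (Eb : Subgroup (X ⧸ Q)) := Cores.pCore_le_sylow Eb hb
    rw [hEb] at ha hb'
    obtain ⟨a', ha', rfl⟩ := ha
    obtain ⟨b', hb'', rfl⟩ := hb'
    rw [← map_mul, ← map_mul, hE b' hb'' a' ha']
  have heq : (E : Subgroup X).map π = Cfsg.pCore 2 (X ⧸ Q) :=
    hEb ▸ le_antisymm hle (Cores.pCore_le_sylow Eb)
  haveI : ((E : Subgroup X).map π).Normal := heq ▸ inferInstance
  have h2 : ((E : Subgroup X).map π).comap π = (E : Subgroup X) ⊔ Q := by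
    rw [comap_map_eq, QuotientGroup.ker_mk']
  rw [← h2]
  exact Normal.comap inferInstance _

/-- The `q`-core of the centraliser of `t`. -/
def core {G : Type*} [Group G] (q : ℕ) (t : G) : Subgroup G :=
  (Cfsg.pCore q (centralizer ({t} : Set G))).map (centralizer ({t} : Set G)).subtype

variable {G : Type*} [Group G] [Finite G]

theorem core_le (q : ℕ) (t : G) : core q t ≤ centralizer ({t} : Set G) := map_subtype_le _

theorem isPGroup_core (q : ℕ) (t : G) : IsPGroup q (core q t) := (Cores.isPGroup_pCore q).map _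

theorem core_map (q : ℕ) (t : G) (f : MulAut G) : (core q t).map f.toMonoidHom = core q (f t) := by
  have hiff : ∀ x : G, x ∈ centralizer ({t} : Set G) ↔ f x ∈ centralizer ({f t} : Set G) := by
    intro x
    rw [mem_centralizer_singleton_iff, mem_centralizer_singleton_iff, ← map_mul, ← map_mul,
      f.injective.eq_iff]
  let e : centralizer ({t} : Set G) ≃* centralizer ({f t} : Set G) :=
    { toEquiv := Equiv.subtypeEquiv f.toEquiv hiff
      map_mul' := fun a b => Subtype.ext (map_mul f (a : G) (b : G)) }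
  rw [core, core, ← Cores.map_pCore e q, Subgroup.map_map, Subgroup.map_map]
  rfl

theorem core_conj {q : ℕ} {t g x : G} (h : x ∈ core q t) : g * x * g⁻¹ ∈ core q (g * t * g⁻¹) := by
  rw [← MulAut.conj_apply g t, ← core_map]
  exact ⟨x, h, rfl⟩

theorem centralizer_le_normalizer_core (q : ℕ) (t : G) :
    centralizer ({t} : Set G) ≤ normalizer (core q t : Set G) := by
  have h : ∀ g ∈ centralizer ({t} : Set G), ∀ x ∈ core q t, g * x * g⁻¹ ∈ core q t := by
    intro g hg x hx
    have h1 := core_conj (g := g) hx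
    rwa [mem_centralizer_singleton_iff.1 hg, mul_inv_cancel_right] at h1
  intro g hg
  rw [mem_normalizer_iff]
  exact fun x => ⟨h g hg x, fun hx => by simpa [mul_assoc] using h g⁻¹ (inv_mem hg) _ hx⟩

namespace Mixed

variable {q r : ℕ} (M : Mixed G q r)
include M

theorem prime_centralizer {t : G} (ht : orderOf t = 2) {p : ℕ} (hp : p.Prime)
    (hd : p ∣ Nat.card (centralizer ({t} : Set G))) : p = 2 ∨ p = q := by
  haveI := Fact.mk hp
  obtain ⟨z, hz⟩ := exists_prime_orderOf_dvd_card' (G := centralizer ({t} : Set G)) p hd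
  rw [← Subgroup.orderOf_coe] at hz
  rcases M.ord_centralizer_two ht (mem_centralizer_singleton_iff.1 z.2) with h | h | h | h
  · exact absurd (hz.symm.trans h) hp.ne_one
  · exact Or.inl (hz.symm.trans h)
  · exact Or.inr (hz.symm.trans h)
  · rw [hz.symm.trans h] at hp
    exact absurd hp (Nat.not_prime_mul (by norm_num) M.hq.ne_one)

/-- `C(t) = O_q(C(t)) (C(t) ∩ N(E))`. -/
theorem decomp (E : Sylow 2 G) {t : G} (htE : t ∈ E) (ht : orderOf t = 2) {x : G}
    (hx : x ∈ centralizer ({t} : Set G)) :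
    ∃ w ∈ core q t, ∃ n ∈ centralizer ({t} : Set G),
      n ∈ normalizer ((E : Subgroup G) : Set G) ∧ x = w * n := by
  haveI : Fact (Nat.Prime 2) := ⟨Nat.prime_two⟩
  haveI : Fact q.Prime := ⟨M.hq⟩
  set C := centralizer ({t} : Set G) with hC
  have hEC : (E : Subgroup G) ≤ C := M.sylow_le_centralizer E htE
  let E' : Sylow 2 C := E.subtype hEC
  haveI := sylow_sup_pCore_normal M.q2 (fun p hp hd => M.prime_centralizer ht hp hd) E'
    (fun a ha b hb => Subtype.ext (M.sylow_comm E a ha b hb))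
  have htop := Sylow.normalizer_sup_eq_top' E'
    (le_sup_left : (E' : Subgroup C) ≤ (E' : Subgroup C) ⊔ Cfsg.pCore q C)
  have hle0 : (E' : Subgroup C) ≤ normalizer (E' : Set C) := le_normalizer
  rw [← sup_assoc, sup_eq_left.2 hle0] at htop
  have hxm : (⟨x, hx⟩ : C) ∈ Cfsg.pCore q C ⊔ normalizer (E' : Set C) := by
    rw [sup_comm, htop]; trivial
  obtain ⟨w, hw, n, hn, e⟩ := mem_sup_of_normal_left.1 hxm
  refine ⟨w, ⟨w, hw, rfl⟩, n, n.2, ?_, ?_⟩
  · rw [mem_normalizer_iff]
    intro y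
    by_cases hy : y ∈ C
    · exact mem_normalizer_iff.1 hn ⟨y, hy⟩
    · refine iff_of_false (fun h => hy (hEC h)) (fun h => hy ?_)
      have h1 := C.mul_mem (C.mul_mem (C.inv_mem n.2) (hEC h)) n.2
      simpa [mul_assoc] using h1
  · exact (congrArg Subtype.val e).symm

/-- A `q`-element of `O_q(C(t)) E` lies in `O_q(C(t))`. -/
theorem mem_core_of_mem_sup (E : Sylow 2 G) {t : G} (htE : t ∈ E) {x : G} {k : ℕ}
    (hk : orderOf x = q ^ k) (hx : x ∈ core q t ⊔ (E : Subgroup G)) : x ∈ core q t := by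
  haveI : Fact (Nat.Prime 2) := ⟨Nat.prime_two⟩
  set C := centralizer ({t} : Set G) with hC
  have hEC : (E : Subgroup G) ≤ C := M.sylow_le_centralizer E htE
  have hle : core q t ⊔ (E : Subgroup G) ≤ normalizer (core q t : Set G) :=
    sup_le le_normalizer (hEC.trans (centralizer_le_normalizer_core q t))
  set K := normalizer (core q t : Set G)
  set N := (core q t).subgroupOf K
  have hxK : x ∈ K := hle hx
  have hmap : ∀ a : K, (a : G) ∈ (E : Subgroup G) ⊔ core q t →
      ∃ e : K, (e : G) ∈ (E : Subgroup G) ∧ (QuotientGroup.mk' N) a = QuotientGroup.mk' N e := by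
    intro a ha
    rw [sup_comm, ← SetLike.mem_coe,
      coe_mul_of_right_le_normalizer_left (core q t) (E : Subgroup G)
        (hEC.trans (centralizer_le_normalizer_core q t)), Set.mem_mul] at ha
    obtain ⟨w, hw, e, he, hae⟩ := ha
    refine ⟨⟨e, hle (mem_sup_right he)⟩, he, ?_⟩
    refine (QuotientGroup.eq.2 ?_).symm
    rw [mem_subgroupOf]
    show e⁻¹ * (a : G) ∈ core q t
    rw [← hae]
    have h1 := (mem_normalizer_iff.1 (K.inv_mem (hle (mem_sup_right he))) w).1 hw
    simpa [mul_assoc] using h1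
  obtain ⟨e, he, heq⟩ := hmap ⟨x, hxK⟩ (by rwa [sup_comm] at hx)
  have h1 : orderOf (QuotientGroup.mk' N ⟨x, hxK⟩) ∣ q ^ k :=
    hk ▸ (Subgroup.orderOf_mk x hxK ▸ orderOf_map_dvd _ _)
  have h2 : orderOf (QuotientGroup.mk' N ⟨x, hxK⟩) ∣ 2 := by
    rw [heq]
    refine (orderOf_map_dvd _ _).trans (orderOf_dvd_of_pow_eq_one ?_)
    exact Subtype.ext (by
      show (e : G) ^ 2 = 1
      rw [pow_two]; exact M.sq_of_isPGroup E.isPGroup' he)
  have h3 : (q ^ k).Coprime 2 := ((Nat.coprime_primes M.hq Nat.prime_two).2 M.q2).pow_left k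
  have h4 := Nat.eq_one_of_dvd_coprimes h3 h1 h2
  exact (QuotientGroup.eq_one_iff (⟨x, hxK⟩ : K)).1 (orderOf_eq_one_iff.1 h4)

end Mixed

end CfsgLib.Recognition.FiveOrbits
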