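import Cfsg.Agent.Lib.Recognition.FiveOrbits.Mixed.KleinLocal

/-!
# The mixed case with Klein four Sylow 2-subgroups: the count
-/

set_option autoImplicit false
set_option linter.unusedSectionVars false

open Subgroup
open scoped Pointwise

namespace CfsgLib.Recognition.FiveOrbits

open CfsgLib.Involution.Dihedral CfsgLib.Involution.Basic

variable {G : Type*} [Group G] [Finite G]

namespace Mixed

variable {q r : ℕ} (M : Mixed G q r)
include M

theorem ord_commute_q {x y : G} (hy : orderOf y = q) (h : Commute x y) : orderOf x ≠ r := fun e => by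
  rcases M.ord_commute_r e h.symm with h1 | h1
  · exact M.hq.ne_one (hy ▸ h1)
  · exact M.qr (hy ▸ h1)

/-- The group counted by element orders. -/
theorem card_by_orders :
    Nat.card G = 1 + num G 2 + num G q + num G r + num G (2 * q) := by
  classical
  letI := Fintype.ofFinite G
  have hnum : ∀ k, num G k = ({x : G | orderOf x = k} : Finset G).card := fun k => by
    rw [num, Nat.card_eq_fintype_card, Fintype.card_subtype]
  have h := Finset.card_eq_sum_card_fiberwise (f := fun x : G => orderOf x)
    (s := (Finset.univ : Finset G)) (t := {1, 2, q, r, 2 * q}) (fun x _ => by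
      simpa using M.ord x)
  have h1 : num G 1 = 1 := by
    rw [num, Nat.card_eq_one_iff_unique]
    exact ⟨⟨fun a b => Subtype.ext ((orderOf_eq_one_iff.1 a.2).trans (orderOf_eq_one_iff.1 b.2).symm)⟩,
      ⟨⟨1, orderOf_one⟩⟩⟩
  have := M.q3; have := M.r3; have := M.qr
  have := Nat.odd_iff.1 M.odd_r
  rw [Finset.sum_insert (by simp; omega), Finset.sum_insert (by simp; omega),
    Finset.sum_insert (by simp; omega), Finset.sum_insert (by simp; omega), Finset.sum_singleton,
    Finset.card_univ, ← Nat.card_eq_fintype_card, ← hnum, ← hnum, ← hnum, ← hnum, ← hnum, h1] at h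
  omega

/-- A Sylow `q`-subgroup acts freely on the elements of order `r`. -/
theorem qpart_dvd_num_r : q ^ (Nat.card G).factorization q ∣ num G r := by
  haveI : Fact q.Prime := ⟨M.hq⟩
  obtain ⟨Q⟩ : Nonempty (Sylow q G) := inferInstance
  rw [← Q.card_eq_multiplicity]
  refine dvd_num _ r fun g hg x hx hgx => ?_
  obtain ⟨k, hk⟩ := IsPGroup.iff_orderOf.1 Q.isPGroup' ⟨g, hg⟩
  rw [Subgroup.orderOf_mk] at hk
  rcases M.ord_commute_r hx (show Commute g x from hgx) with h | h
  · exact orderOf_eq_one_iff.1 h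
  · exact absurd ((Nat.prime_dvd_prime_iff_eq M.hr M.hq).1 (M.hr.dvd_of_dvd_pow (hk ▸ h.symm.dvd))).symm M.qr

/-- The elements of order `r` lie in the Sylow `r`-subgroups. -/
theorem num_r_le : num G r ≤ Nat.card (Sylow r G) * (r ^ (Nat.card G).factorization r - 1) := by
  classical
  haveI : Fact r.Prime := ⟨M.hr⟩
  haveI : Fintype (Sylow r G) := Fintype.ofFinite _
  letI := Fintype.ofFinite G
  have hcard : ∀ P : Sylow r G, Nat.card {x : (P : Subgroup G) // x ≠ 1} =
      r ^ (Nat.card G).factorization r - 1 := by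
    intro P
    rw [Nat.card_eq_fintype_card, Fintype.card_subtype_compl, Fintype.card_subtype_eq,
      ← Nat.card_eq_fintype_card, P.card_eq_multiplicity]
  have hsum : Nat.card (Σ P : Sylow r G, {x : (P : Subgroup G) // x ≠ 1}) =
      Nat.card (Sylow r G) * (r ^ (Nat.card G).factorization r - 1) := by
    rw [Nat.card_sigma, Finset.sum_congr rfl (fun P _ => hcard P), Finset.sum_const, Finset.card_univ,
      ← Nat.card_eq_fintype_card, smul_eq_mul]
  rw [← hsum]
  have hex : ∀ x : {x : G // orderOf x = r}, ∃ P : Sylow r G, x.1 ∈ P := fun x => by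
    obtain ⟨P, hP⟩ := (IsPGroup.of_card (n := 1) (by rw [Nat.card_zpowers, x.2, pow_one]) :
      IsPGroup r (zpowers x.1)).exists_le_sylow
    exact ⟨P, hP (mem_zpowers _)⟩
  choose P hP using hex
  refine Nat.card_le_card_of_injective
    (fun x => ⟨P x, ⟨x.1, hP x⟩, fun e => M.hr.ne_one (by
      rw [← x.2, show x.1 = 1 from congrArg Subtype.val e, orderOf_one])⟩) fun a b e => ?_
  exact Subtype.ext (congrArg (fun s : (Σ P : Sylow r G, {x : (P : Subgroup G) // x ≠ 1}) => (s.2.1 : G)) e)

end Mixed

/-- An involutory map of a set of odd size has a fixed point. -/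
theorem exists_conj_fixed {S : Set G} (hS : Odd (Nat.card S)) {g : G} (hg : g * g = 1)
    (hgS : ∀ v ∈ S, g * v * g⁻¹ ∈ S) : ∃ v ∈ S, g * v * g⁻¹ = v := by
  classical
  letI := Fintype.ofFinite S
  haveI : Fact (Nat.Prime 2) := ⟨Nat.prime_two⟩
  have hinv : ∀ v : G, g * (g * v * g⁻¹) * g⁻¹ = v := fun v => by
    calc g * (g * v * g⁻¹) * g⁻¹ = g * g * v * (g * g)⁻¹ := by group
      _ = v := by rw [hg, one_mul, inv_one, mul_one]
  let σ : Equiv.Perm S := Function.Involutive.toPerm (fun v => ⟨g * v * g⁻¹, hgS v v.2⟩)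
    (fun v => Subtype.ext (hinv v))
  have hσ : σ ^ 2 ^ 1 = 1 := by
    ext v
    rw [pow_one, pow_two]
    exact hinv v
  obtain ⟨v, hv⟩ := Equiv.Perm.exists_fixed_point_of_prime (p := 2) (n := 1) (by
    rw [← Nat.card_eq_fintype_card]
    have := Nat.odd_iff.1 hS
    omega) hσ
  exact ⟨v, v.2, congrArg Subtype.val hv⟩

namespace Klein

variable {q r : ℕ} (K : Klein G q r)
include K

theorem exists_frame_q {y : G} (hy : orderOf y = q) :
    ∃ (P : Sylow 2 G) (t s : G), Frame P t s ∧ y ∈ core q t := by
  obtain ⟨t, ht, hty⟩ := K.M.exists_involution_of_q hy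
  obtain ⟨P, s, F⟩ := K.exists_frame ht
  exact ⟨P, t, s, F, K.mem_core F hy hty.symm⟩

theorem inv_conj_of_commute {P : Sylow 2 G} {t s y v : G} (F : Frame P t s) (hy : y ∈ core q t)
    (hy1 : y ≠ 1) (hv : orderOf v = 2) (hvy : Commute v y) :
    ∃ g ∈ centralizer ({y} : Set G), g * t * g⁻¹ = v := by
  have hyq := K.orderOf_core hy hy1 F.ot
  have hty : Commute t y := (K.core_commute hy).symm
  by_cases hvt : v = t
  · exact ⟨1, one_mem _, by simp [hvt]⟩
  have hcy : Commute (t * v) y := hty.mul_left hvy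
  have hodd : Odd (orderOf (t * v)) := by
    rcases K.M.ord (t * v) with h | h | h | h | h
    · rw [h]; exact odd_one
    · exfalso
      have hc : Commute t v := by
        show t * v = v * t
        calc t * v = (t * v)⁻¹ := (inv_eq h).symm
          _ = v * t := by rw [mul_inv_rev, inv_eq F.ot, inv_eq hv]
      obtain ⟨P', F'⟩ := K.exists_frame_pair F.ot hv (Ne.symm hvt) hc
      exact hy1 (K.eq_one_of_core_of_mem F' hy (K.mem_of_commute F' hty.symm hvy.symm))
    · rw [h]; exact K.M.odd_q
    · exact absurd h (K.M.ord_commute_q hyq hcy)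
    · exfalso
      set z := (t * v) ^ q with hz
      have hz2 : orderOf z = 2 := K.M.orderOf_pow_q h
      have h1 : t * z * t⁻¹ = z := by
        rw [hz, conj_pow (conj_mul_left F.ot hv), ← hz, inv_eq hz2]
      have hzt : Commute t z := mul_inv_eq_iff_eq_mul.1 h1
      have hne : t ≠ z := by
        intro e
        have h0 : Commute z (t * v) := (Commute.refl (t * v)).pow_left q
        have h2 : Commute t (t * v) := by
          show t * (t * v) = t * v * t
          conv_lhs => lhs; rw [e]
          conv_rhs => rhs; rw [e]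
          exact h0.eq
        have h3 := conj_mul_left F.ot hv
        rw [h2.eq, mul_inv_cancel_right] at h3
        have h4 : (t * v) ^ 2 = 1 := by rw [pow_two]; nth_rewrite 2 [h3]; exact mul_inv_cancel _
        have := Nat.le_of_dvd two_pos (orderOf_dvd_of_pow_eq_one h4)
        have := K.M.q3
        omega
      obtain ⟨P', F'⟩ := K.exists_frame_pair F.ot hz2 hne hzt
      exact hy1 (K.eq_one_of_core_of_mem F' hy
        (K.mem_of_commute F' hty.symm (hcy.pow_left q).symm))
  obtain ⟨d, hd, e⟩ := exists_conj_of_odd F.ot hv hodd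
  exact ⟨d, zpowers_le.2 (mem_centralizer_singleton_iff.2 hcy) hd, e⟩

theorem centralizer_q {P : Sylow 2 G} {t s y : G} (F : Frame P t s) (hy : y ∈ core q t)
    (hy1 : y ≠ 1) :
    Nat.card (centralizer ({y} : Set G)) =
      Nat.card {v : G // orderOf v = 2 ∧ Commute v y} * (2 * Nat.card (core q t)) := by
  have hyq := K.orderOf_core hy hy1 F.ot
  have hty : Commute t y := (K.core_commute hy).symm
  have hle : core q t ≤ centralizer ({y} : Set G) :=
    fun x hx => mem_centralizer_singleton_iff.2 (K.core_comm F hx hy)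
  rw [card_eq_orbit_mul (centralizer ({y} : Set G)) t {v | orderOf v = 2 ∧ Commute v y} fun v => ?_,
    K.card_inf_centralizer F hy hy1 (Or.inl rfl), inf_eq_left.2 hle]
  · rfl
  constructor
  · rintro ⟨hv, hvy⟩
    exact K.inv_conj_of_commute F hy hy1 hv hvy
  · rintro ⟨g, hg, rfl⟩
    refine ⟨(orderOf_conj g t).trans F.ot, ?_⟩
    have hgy : Commute g y := mem_centralizer_singleton_iff.1 hg
    exact (hgy.mul_left hty).mul_left hgy.inv_left

theorem orderOf_q_of_two_q {x : G} (hx : orderOf x = 2 * q) : orderOf (x ^ q * x) = q := by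
  have hd : q ∣ q + 1 → False := fun h => K.M.hq.not_dvd_one ((Nat.dvd_add_right dvd_rfl).1 h)
  obtain ⟨j, hj⟩ := K.M.odd_q
  rw [← pow_succ, show q + 1 = 2 * (j + 1) by omega, pow_mul]
  have h1 : orderOf (x ^ 2) = q := K.M.orderOf_sq hx
  rw [orderOf_pow' _ (by omega), h1]
  have : Nat.gcd q (j + 1) = 1 := (K.M.hq.coprime_iff_not_dvd.2 fun h =>
    hd (h.trans ⟨2, by omega⟩))
  rw [this, Nat.div_one]

theorem invNum_2q {x : G} (hx : orderOf x = 2 * q) {w : ℕ}
    (hw : ∀ t : G, orderOf t = 2 → Nat.card (core q t) = w) : invNum x = 2 * w := by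
  set t := x ^ q with ht
  have ot : orderOf t = 2 := K.M.orderOf_pow_q hx
  set y := t * x with hy
  have hyq : orderOf y = q := K.orderOf_q_of_two_q hx
  have hxy : x = t * y := by rw [hy, ← mul_assoc, mul_self ot, one_mul]
  have htx : Commute t x := (Commute.refl x).pow_left q
  have hyt : Commute y t := (Commute.refl t).mul_left htx.symm
  obtain ⟨P, s, F⟩ := K.exists_frame ot
  have hyc := K.mem_core F hyq hyt
  have hy1 : y ≠ 1 := fun e => K.M.hq.ne_one (by rw [← hyq, e, orderOf_one])
  rw [← hw t ot, ← K.card_inverting_in_centralizer F hyc hy1]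
  refine Nat.card_congr (Equiv.subtypeEquivRight fun g => ?_)
  constructor
  · rintro ⟨hg, hgx⟩
    have hgt : g * t * g⁻¹ = t := by rw [ht, conj_pow hgx, ← ht, inv_eq ot]
    have hgt' : Commute g t := mul_inv_eq_iff_eq_mul.1 hgt
    refine ⟨⟨hg, ?_⟩, hgt'⟩
    rw [hy, ← conj_mul, hgt, hgx, mul_inv_rev, inv_eq ot]
    exact (htx.inv_right).eq
  · rintro ⟨⟨hg, hgy⟩, hgt⟩
    refine ⟨hg, ?_⟩
    rw [hxy, ← conj_mul, hgy, show g * t * g⁻¹ = t by rw [hgt.eq, mul_inv_cancel_right],
      (hyt.inv_left.symm).eq]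
    exact ((mul_inv_rev t y).trans (by rw [inv_eq ot])).symm

/-- A large centraliser: the inverting involutions come in orbits of size divisible by `q k`. -/
theorem dvd_invNum {P : Sylow 2 G} {t s y : G} (F : Frame P t s) (hy : y ∈ core q t) (hy1 : y ≠ 1)
    (hs : ¬ core q s ≤ centralizer ({y} : Set G))
    (hts : ¬ core q (t * s) ≤ centralizer ({y} : Set G)) :
    q * Nat.card {v : G // orderOf v = 2 ∧ Commute v y} ∣ invNum y := by
  classical
  haveI : Fact q.Prime := ⟨K.M.hq⟩
  set C := centralizer ({y} : Set G) with hC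
  set k := Nat.card {v : G // orderOf v = 2 ∧ Commute v y} with hk
  have hkodd : Odd k := by
    have h1 : Even (Nat.card C) :=
      even_of_involution_mem C (mem_centralizer_singleton_iff.2 (K.core_commute hy).symm) F.ot
    have h2 := CfsgLib.Involution.Count.odd_card_involutions h1
    rw [hk]
    convert h2 using 1
    exact Nat.card_congr
      { toFun := fun v => ⟨⟨v.1, mem_centralizer_singleton_iff.2 v.2.2⟩, by
          rw [Subgroup.orderOf_mk]; exact v.2.1⟩
        invFun := fun v => ⟨v.1.1, by rw [Subgroup.orderOf_coe]; exact v.2,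
          mem_centralizer_singleton_iff.1 v.1.2⟩
        left_inv := fun v => rfl
        right_inv := fun v => rfl }
  let orb : G → Set G := fun e => {a | ∃ c ∈ C, c * e * c⁻¹ = a}
  have horb : ∀ e, Frame P t e → ¬ core q e ≤ C → q * k ∣ Nat.card (orb e) := by
    intro e F' he
    have h1 := card_eq_orbit_mul C e (orb e) (fun a => Iff.rfl)
    rw [K.centralizer_q F' hy hy1, K.card_inf_centralizer F' hy hy1 (Or.inr rfl), ← hk,
      K.card_core F'.os F'.ot] at h1
    obtain ⟨j, hj⟩ := IsPGroup.iff_card.1 (isPGroup_core q e)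
    obtain ⟨i, hi⟩ := IsPGroup.iff_card.1 ((isPGroup_core q e).to_le
      (inf_le_left : core q e ⊓ C ≤ core q e))
    have hlt : i < j := by
      by_contra hcon
      apply he
      have h2 : core q e ⊓ C = core q e := Subgroup.eq_of_le_of_card_ge inf_le_left (by
        rw [hi, hj]; exact Nat.pow_le_pow_right K.M.hq.pos (by omega))
      exact h2 ▸ inf_le_right
    obtain ⟨d, rfl⟩ : ∃ d, j = i + (d + 1) := ⟨j - i - 1, by omega⟩
    rw [hi, hj, pow_add, pow_succ'] at h1
    refine ⟨q ^ d, ?_⟩
    refine Nat.eq_of_mul_eq_mul_right (show 0 < 2 * q ^ i from Nat.mul_pos two_pos (Nat.pow_pos K.M.hq.pos)) ?_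
    rw [← h1]; ring
  have hset : invNum y = Nat.card (orb s ∪ orb (t * s) : Set G) := by
    refine Nat.card_congr (Equiv.setCongr ?_)
    ext g
    show orderOf g = 2 ∧ g * y * g⁻¹ = y⁻¹ ↔ g ∈ orb s ∪ orb (t * s)
    constructor
    · rintro ⟨hg, hgy⟩
      obtain ⟨v, ⟨hv, hvy⟩, hgv⟩ := exists_conj_fixed (S := {v : G | orderOf v = 2 ∧ Commute v y})
        (by exact hkodd) (mul_self hg) (fun v hv => ⟨(orderOf_conj g v).trans hv.1, by
          have h2 := hv.2.inv_right.map (MulAut.conj g).toMonoidHom
          simp only [MulEquiv.coe_toMonoidHom, MulAut.conj_apply] at h2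
          rwa [← conj_inv, hgy, inv_inv] at h2⟩)
      obtain ⟨c, hc, rfl⟩ : ∃ c ∈ C, c * t * c⁻¹ = v := by
        by_cases hvt : v = t
        · exact ⟨1, one_mem _, by simp [hvt]⟩
        · exact K.inv_conj_of_commute F hy hy1 hv hvy
      have hcy : Commute c y := mem_centralizer_singleton_iff.1 hc
      set g' := c⁻¹ * g * c with hg'
      have hg'2 : orderOf g' = 2 := by
        have := orderOf_conj c⁻¹ g
        rw [inv_inv] at this
        rw [hg', this, hg]
      have hg't : Commute g' t := by
        show g' * t = t * g'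
        rw [hg']
        calc c⁻¹ * g * c * t = c⁻¹ * (g * (c * t * c⁻¹) * g⁻¹) * g * c := by group
          _ = t * (c⁻¹ * g * c) := by rw [hgv]; group
      have hg'y : g' * y * g'⁻¹ = y⁻¹ := by
        rw [hg', show c⁻¹ * g * c * y * (c⁻¹ * g * c)⁻¹ = c⁻¹ * (g * (c * y * c⁻¹) * g⁻¹) * c by group,
          hcy.eq, mul_inv_cancel_right, hgy]
        rw [mul_assoc, ← (hcy.inv_right).eq, ← mul_assoc, inv_mul_cancel, one_mul]
      have key : ∀ e, Frame P t e → ∀ w ∈ core q t, g' = w * e → g ∈ orb e := by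
        intro e F' w hw hge
        let f : core q t → core q t := fun x => x * x
        have hinj : Function.Injective f := fun a b hab => by
          have e1 : (a : G) * a = b * b := congrArg Subtype.val hab
          refine Subtype.ext (mul_inv_eq_one.1 (K.eq_one_of_core_of_sq (mul_mem a.2 (inv_mem b.2)) ?_))
          rw [((K.core_comm F b.2 a.2).inv_left).mul_mul_mul_comm, e1]
          group
        obtain ⟨u, hu⟩ := (Finite.injective_iff_surjective.1 hinj) ⟨w, hw⟩
        have huu : (u : G) * u = w := congrArg Subtype.val hu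
        refine ⟨c * u, mul_mem hc (mem_centralizer_singleton_iff.2 (K.core_comm F u.2 hy)), ?_⟩
        have h3 : e * (u : G)⁻¹ = u * e := by
          have h4 := K.core_inv F' (inv_mem u.2)
          rw [inv_inv, mul_inv_eq_iff_eq_mul] at h4
          exact h4
        have h5 : g = c * g' * c⁻¹ := by rw [hg']; group
        rw [h5, hge, ← huu, mul_inv_rev]
        calc c * u * e * ((u : G)⁻¹ * c⁻¹) = c * (u * (e * (u : G)⁻¹)) * c⁻¹ := by group
          _ = c * (u * u * e) * c⁻¹ := by rw [h3]; group
      rcases K.involution_cases F hg'2 hg't with e | ⟨w, hw, e | e⟩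
      · exfalso
        rw [e, ← (K.core_commute hy).eq, mul_inv_cancel_right] at hg'y
        refine hy1 (K.eq_one_of_core_of_sq hy ?_)
        nth_rewrite 1 [hg'y]
        exact inv_mul_cancel y
      · exact Or.inl (key s F w hw e)
      · exact Or.inr (key (t * s) (F.third K.M) w hw e)
    · have key : ∀ e, Frame P t e → g ∈ orb e → orderOf g = 2 ∧ g * y * g⁻¹ = y⁻¹ := by
        rintro e F' ⟨c, hc, rfl⟩
        refine ⟨(orderOf_conj c e).trans F'.os, ?_⟩
        have hcy : Commute c y := mem_centralizer_singleton_iff.1 hc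
        rw [show c * e * c⁻¹ * y * (c * e * c⁻¹)⁻¹ = c * (e * (c⁻¹ * y * c) * e⁻¹) * c⁻¹ by group,
          hcy.inv_left.eq, inv_mul_cancel_right, K.core_inv F' hy, hcy.inv_right.eq, mul_inv_cancel_right]
      rintro (h | h)
      · exact key s F h
      · exact key _ (F.third K.M) h
  rw [hset]
  by_cases hint : (orb s ∩ orb (t * s)).Nonempty
  · obtain ⟨a, ⟨c, hc, hca⟩, ⟨d, hd, hda⟩⟩ := hint
    have hmove : ∀ e c : G, c ∈ C → orb (c * e * c⁻¹) = orb e := by
      intro e c hc
      ext b
      constructor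
      · rintro ⟨x, hx, rfl⟩
        exact ⟨x * c, mul_mem hx hc, by group⟩
      · rintro ⟨x, hx, rfl⟩
        exact ⟨x * c⁻¹, mul_mem hx (inv_mem hc), by group⟩
    have : orb s = orb (t * s) := by
      rw [← hmove s c hc, ← hmove (t * s) d hd, hca, hda]
    rw [← this, Set.union_self]
    exact horb s F hs
  · rw [Nat.card_coe_set_eq, Set.ncard_union_eq (Set.disjoint_iff_inter_eq_empty.2
      (Set.not_nonempty_iff_eq_empty.1 hint)) (Set.toFinite _) (Set.toFinite _),
      ← Nat.card_coe_set_eq, ← Nat.card_coe_set_eq]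
    exact dvd_add (horb s F hs) (horb (t * s) (F.third K.M) hts)

/-- Pairs of involutions sorted by their product. -/
theorem pairs_eq {w : ℕ} (hw : ∀ t : G, orderOf t = 2 → Nat.card (core q t) = w) {yq yr : G}
    (hyq : orderOf yq = q) (hyr : orderOf yr = r) :
    num G 2 * num G 2 = num G 2 * (1 + 2 * w) + num G q * invNum yq + num G (2 * q) * (2 * w) +
      num G r * invNum yr := by
  classical
  letI := Fintype.ofFinite G
  set f : G × G → ℕ := fun p => if Commute p.1 p.2 then 0 else orderOf (p.1 * p.2) with hf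
  set S : Finset (G × G) := {p : G × G | orderOf p.1 = 2 ∧ orderOf p.2 = 2} with hS
  have hord : ∀ p ∈ S, f p ∈ ({0, q, 2 * q, r} : Finset ℕ) := by
    intro p hp
    simp only [hS, Finset.mem_filter, Finset.mem_univ, true_and] at hp
    simp only [hf]
    split_ifs with hc
    · simp
    · rcases K.M.ord (p.1 * p.2) with h | h | h | h | h
      · exfalso
        have h1 := orderOf_eq_one_iff.1 h
        rw [mul_eq_one_iff_eq_inv, inv_eq hp.2] at h1
        exact hc (by rw [h1])
      · exfalso
        refine hc ?_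
        show p.1 * p.2 = p.2 * p.1
        calc p.1 * p.2 = (p.1 * p.2)⁻¹ := (inv_eq h).symm
          _ = p.2 * p.1 := by rw [mul_inv_rev, inv_eq hp.1, inv_eq hp.2]
      · simp [h]
      · simp [h]
      · simp [h]
  have h := Finset.card_eq_sum_card_fiberwise hord
  have := K.M.q3; have := K.M.r3; have := K.M.qr
  have := Nat.odd_iff.1 K.M.odd_r
  have hfib : ∀ k, 2 < k → ∀ I, (∀ x : G, orderOf x = k → invNum x = I) →
      (S.filter fun p => f p = k).card = num G k * I := by
    intro k hk I hI
    rw [← card_pairs_order hk hI, Nat.card_eq_fintype_card, Fintype.card_subtype]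
    congr 1
    ext p
    simp only [hS, hf, Finset.mem_filter, Finset.mem_univ, true_and]
    constructor
    · rintro ⟨⟨h1, h2⟩, h3⟩
      split_ifs at h3 with hc
      · omega
      · exact ⟨h1, h2, h3⟩
    · rintro ⟨h1, h2, h3⟩
      refine ⟨⟨h1, h2⟩, ?_⟩
      rw [if_neg fun hc : Commute p.1 p.2 => ?_]
      · exact h3
      · have h4 : (p.1 * p.2) ^ 2 = 1 := by
          rw [hc.mul_pow, pow_two, pow_two, mul_self h1, mul_self h2, one_mul]
        have := Nat.le_of_dvd two_pos (orderOf_dvd_of_pow_eq_one h4)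
        omega
  have h0 : (S.filter fun p => f p = 0).card = num G 2 * (1 + 2 * w) := by
    let e : {p : G × G // (orderOf p.1 = 2 ∧ orderOf p.2 = 2) ∧ Commute p.1 p.2} ≃
        Σ b : {b : G // orderOf b = 2}, {a : G // orderOf a = 2 ∧ Commute a b.1} :=
      { toFun := fun p => ⟨⟨p.1.2, p.2.1.2⟩, p.1.1, p.2.1.1, p.2.2⟩
        invFun := fun z => ⟨(z.2.1, z.1.1), ⟨z.2.2.1, z.1.2⟩, z.2.2.2⟩
        left_inv := fun p => rfl
        right_inv := fun z => rfl }
    have h1 : (S.filter fun p => f p = 0).card =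
        Nat.card {p : G × G // (orderOf p.1 = 2 ∧ orderOf p.2 = 2) ∧ Commute p.1 p.2} := by
      rw [Nat.card_eq_fintype_card, Fintype.card_subtype]
      congr 1
      ext p
      simp only [hS, hf, Finset.mem_filter, Finset.mem_univ, true_and]
      refine and_congr_right fun hp => ⟨fun h3 => ?_, fun hc => if_pos hc⟩
      by_contra hc
      rw [if_neg hc] at h3
      exact (orderOf_pos _).ne' h3
    rw [h1, Nat.card_congr e, Nat.card_sigma]
    rw [Finset.sum_congr rfl (fun b _ => show Nat.card {a : G // orderOf a = 2 ∧ Commute a b.1} =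
      1 + 2 * w by
        obtain ⟨P, s, F⟩ := K.exists_frame b.2
        rw [K.card_commuting F, hw _ b.2]), Finset.sum_const, Finset.card_univ,
      ← Nat.card_eq_fintype_card, smul_eq_mul]
    rfl
  rw [Finset.sum_insert (by simp; omega), Finset.sum_insert (by simp; omega),
    Finset.sum_insert (by simp; omega), Finset.sum_singleton, h0,
    hfib q (by omega) (invNum yq) (fun x hx => K.M.invNum_eq (hx.trans hyq.symm)),
    hfib (2 * q) (by omega) (2 * w) (fun x hx => K.invNum_2q hx hw),
    hfib r (by omega) (invNum yr) (fun x hx => K.M.invNum_eq (hx.trans hyr.symm))] at h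
  have hcS : S.card = num G 2 * num G 2 := by
    rw [num, ← Nat.card_prod, Nat.card_congr (Equiv.subtypeProdEquivProd
      (p := fun a : G => orderOf a = 2) (q := fun a : G => orderOf a = 2)).symm,
      Nat.card_eq_fintype_card, Fintype.card_subtype]
  rw [hcS] at h
  rw [h]; ring

theorem exists_outside {H A B : Subgroup G} (hA : ¬ H ≤ A) (hB : ¬ H ≤ B) :
    ∃ y ∈ H, y ∉ A ∧ y ∉ B := by
  obtain ⟨a, haH, haA⟩ := SetLike.not_le_iff_exists.1 hA
  obtain ⟨b, hbH, hbB⟩ := SetLike.not_le_iff_exists.1 hB
  by_cases h1 : a ∈ B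
  · by_cases h2 : b ∈ A
    · refine ⟨a * b, H.mul_mem haH hbH, fun h => haA ?_, fun h => hbB ?_⟩
      · simpa using A.mul_mem h (A.inv_mem h2)
      · simpa [mul_assoc] using B.mul_mem (B.inv_mem h1) h
    · exact ⟨b, hbH, h2, hbB⟩
  · exact ⟨a, haH, haA, h1⟩

theorem false_of_klein : False := by
  classical
  letI := Fintype.ofFinite G
  have M := K.M
  haveI : Fact (Nat.Prime 2) := ⟨Nat.prime_two⟩
  haveI : Fact q.Prime := ⟨M.hq⟩
  haveI : Fact r.Prime := ⟨M.hr⟩
  obtain ⟨t, ht⟩ := exists_prime_orderOf_dvd_card' (G := G) 2 M.two_dvd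
  obtain ⟨P, s, F⟩ := K.exists_frame ht
  set w := Nat.card (core q t) with hwdef
  have hw : ∀ u : G, orderOf u = 2 → Nat.card (core q u) = w := fun u hu => K.card_core ht hu
  obtain ⟨c, hc⟩ := IsPGroup.iff_card.1 (isPGroup_core q t)
  have hqw : q ∣ w := by
    rcases Nat.eq_zero_or_pos c with rfl | hc0
    · exact absurd (eq_bot_of_card_eq _ (by rw [hc, pow_zero])) (K.core_ne t ht)
    · rw [hwdef, hc]; exact dvd_pow_self q hc0.ne'
  have hq3 := M.q3
  have hw3 : 3 ≤ w := hq3.trans (Nat.le_of_dvd Nat.card_pos hqw)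
  set n := num G 2 with hn
  have hnodd : Odd n := CfsgLib.Involution.Count.odd_card_involutions (even_iff_two_dvd.2 M.two_dvd)
  have hG : Nat.card G = n * (4 * w) := by
    rw [hwdef, ← K.card_centralizer F, ← card_top (G := G)]
    refine card_eq_image_mul ⊤ t le_top {a : G | orderOf a = 2} fun a => ⟨fun ha => ?_, ?_⟩
    · obtain ⟨g, hg⟩ := isConj_iff.1 (K.conj t a ht ha)
      exact ⟨g, mem_top g, hg⟩
    · rintro ⟨g, -, rfl⟩
      exact (orderOf_conj g t).trans ht
  obtain ⟨⟨y0, hy0⟩, hy01'⟩ := (nontrivial_iff_exists_ne (1 : core q t)).1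
    ((nontrivial_iff_ne_bot _).2 (K.core_ne t ht))
  have hy01 : y0 ≠ 1 := fun e => hy01' (Subtype.ext e)
  set k := Nat.card {v : G // orderOf v = 2 ∧ Commute v y0} with hk
  have hCy : ∀ y : G, orderOf y = q → Nat.card (centralizer ({y} : Set G)) = k * (2 * w) := fun y hy => by
    rw [M.card_centralizer_eq (hy.trans (K.orderOf_core hy0 hy01 F.ot).symm), K.centralizer_q F hy0 hy01]
  have hkall : ∀ y : G, orderOf y = q → Nat.card {v : G // orderOf v = 2 ∧ Commute v y} = k := by
    intro y hy
    obtain ⟨P', t', s', F', hyc⟩ := K.exists_frame_q hy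
    have h1 := K.centralizer_q F' hyc (fun e => M.hq.ne_one (by rw [← hy, e, orderOf_one]))
    rw [hCy y hy, hw t' F'.ot] at h1
    exact (Nat.eq_of_mul_eq_mul_right (by omega) h1).symm
  -- the number of elements of order `2q` and `q`
  have hcore : ∀ u : G, orderOf u = 2 → Nat.card {y : G // orderOf y = q ∧ Commute y u} = w - 1 := by
    intro u hu
    obtain ⟨P', s', F'⟩ := K.exists_frame hu
    rw [← hw u hu]
    letI := Fintype.ofFinite (core q u)
    rw [show Nat.card (core q u) - 1 = Nat.card {y : core q u // y ≠ 1} by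
      rw [Nat.card_eq_fintype_card (α := {y : core q u // y ≠ 1}), Fintype.card_subtype_compl,
        Fintype.card_subtype_eq, ← Nat.card_eq_fintype_card]]
    exact Nat.card_congr
      { toFun := fun y => ⟨⟨y.1, K.mem_core F' y.2.1 y.2.2⟩, fun e => M.hq.ne_one (by
          rw [← y.2.1, show y.1 = 1 from congrArg Subtype.val e, orderOf_one])⟩
        invFun := fun y => ⟨y.1.1, K.orderOf_core y.1.2 (fun e => y.2 (Subtype.ext e)) hu,
          K.core_commute y.1.2⟩
        left_inv := fun y => rfl
        right_inv := fun y => rfl }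
  have hN2q : num G (2 * q) = n * (w - 1) := by
    have h1 : Nat.card (Σ v : {v : G // orderOf v = 2}, {y : G // orderOf y = q ∧ Commute y v.1}) =
        n * (w - 1) := by
      rw [Nat.card_sigma, Finset.sum_congr rfl (fun v _ => hcore v.1 v.2), Finset.sum_const,
        Finset.card_univ, ← Nat.card_eq_fintype_card, smul_eq_mul]
      rfl
    rw [← h1]
    symm
    refine Nat.card_eq_of_bijective (fun z => (⟨z.1.1 * z.2.1, ?_⟩ : {x : G // orderOf x = 2 * q})) ?_
    · rw [(z.2.2.2).symm.orderOf_mul_eq_mul_orderOf_of_coprime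
        (by rw [z.1.2, z.2.2.1]; exact (Nat.coprime_primes Nat.prime_two M.hq).2 M.q2.symm), z.1.2, z.2.2.1]
    · have hpow : ∀ v y : G, orderOf v = 2 → orderOf y = q → Commute y v → (v * y) ^ q = v := by
        intro v y hv hy hc
        obtain ⟨j, hj⟩ := M.odd_q
        rw [hc.symm.mul_pow, ← hy, pow_orderOf_eq_one, mul_one, hy, hj, pow_succ, pow_mul, pow_two,
          mul_self hv, one_pow, one_mul]
      constructor
      · rintro ⟨⟨v, hv⟩, y, hy⟩ ⟨⟨v', hv'⟩, y', hy'⟩ h
        have h' : v * y = v' * y' := congrArg Subtype.val h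
        have e : v = v' := by rw [← hpow v y hv hy.1 hy.2, h', hpow v' y' hv' hy'.1 hy'.2]
        subst e
        have e2 : y = y' := mul_left_cancel h'
        subst e2
        rfl
      · rintro ⟨x, hx⟩
        refine ⟨⟨⟨x ^ q, M.orderOf_pow_q hx⟩, x ^ q * x, K.orderOf_q_of_two_q hx,
          (((Commute.refl x).pow_left q).mul_right (Commute.refl (x ^ q))).symm |> fun _ =>
            (Commute.refl (x ^ q)).mul_left ((Commute.refl x).pow_right q)⟩, Subtype.ext ?_⟩
        show x ^ q * (x ^ q * x) = x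
        rw [← mul_assoc, mul_self (M.orderOf_pow_q hx), one_mul]
  have hNq : num G q * k = n * (w - 1) := by
    have h1 : Nat.card (Σ v : {v : G // orderOf v = 2}, {y : G // orderOf y = q ∧ Commute y v.1}) =
        n * (w - 1) := by
      rw [Nat.card_sigma, Finset.sum_congr rfl (fun v _ => hcore v.1 v.2), Finset.sum_const,
        Finset.card_univ, ← Nat.card_eq_fintype_card, smul_eq_mul]
      rfl
    have h2 : Nat.card (Σ y : {y : G // orderOf y = q}, {v : G // orderOf v = 2 ∧ Commute v y.1}) =
        num G q * k := by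
      rw [Nat.card_sigma, Finset.sum_congr rfl (fun y _ => hkall y.1 y.2), Finset.sum_const,
        Finset.card_univ, ← Nat.card_eq_fintype_card, smul_eq_mul]
      rfl
    rw [← h1, ← h2]
    exact Nat.card_congr
      { toFun := fun z => ⟨⟨z.2.1, z.2.2.1⟩, z.1.1, z.1.2, z.2.2.2.symm⟩
        invFun := fun z => ⟨⟨z.2.1, z.2.2.1⟩, z.1.1, z.1.2, z.2.2.2.symm⟩
        left_inv := fun z => rfl
        right_inv := fun z => rfl }
  -- `w k` is the full `q`-part
  have hk0 : 0 < k := by
    rcases Nat.eq_zero_or_pos k with e | e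
    · rw [e, mul_zero] at hNq
      rcases Nat.mul_eq_zero.1 hNq.symm with h | h <;> [rw [h] at hnodd; omega]
      exact absurd hnodd (by decide)
    · exact e
  have hkdvd : k * (2 * w) ∣ Nat.card G := by
    rw [← hCy y0 (K.orderOf_core hy0 hy01 F.ot)]; exact card_subgroup_dvd_card _
  have hkodd : Odd k := by
    set C := centralizer ({y0} : Set G)
    have h1 := CfsgLib.Involution.Count.odd_card_involutions
      (even_of_involution_mem C (mem_centralizer_singleton_iff.2 (K.core_commute hy0).symm) F.ot)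
    convert h1 using 1
    exact Nat.card_congr
      { toFun := fun v => ⟨⟨v.1, mem_centralizer_singleton_iff.2 v.2.2⟩, by
          rw [Subgroup.orderOf_mk]; exact v.2.1⟩
        invFun := fun v => ⟨v.1.1, by rw [Subgroup.orderOf_coe]; exact v.2,
          mem_centralizer_singleton_iff.1 v.1.2⟩
        left_inv := fun v => rfl
        right_inv := fun v => rfl }
  obtain ⟨i, hi⟩ : ∃ i, k = q ^ i := by
    refine ⟨_, Nat.eq_prime_pow_of_unique_prime_dvd hk0.ne' fun {p} hp hd => ?_⟩
    haveI := Fact.mk hp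
    obtain ⟨z, hz⟩ := exists_prime_orderOf_dvd_card' (G := centralizer ({y0} : Set G)) p
      (by rw [hCy y0 (K.orderOf_core hy0 hy01 F.ot)]; exact hd.mul_right _)
    rw [← Subgroup.orderOf_coe] at hz
    rcases M.ord (z : G) with h | h | h | h | h
    · exact absurd (hz.symm.trans h) hp.ne_one
    · rw [hz.symm.trans h] at hd
      exact absurd hd (fun e => Nat.not_even_iff_odd.2 hkodd (even_iff_two_dvd.2 e))
    · exact hz.symm.trans h
    · exact absurd h (M.ord_commute_q (K.orderOf_core hy0 hy01 F.ot)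
        (mem_centralizer_singleton_iff.1 z.2))
    · rw [hz.symm.trans h] at hp
      exact absurd hp (Nat.not_prime_mul (by norm_num) M.hq.ne_one)
  have hQ : w * k = q ^ (Nat.card G).factorization q := by
    have hwk : w * k = q ^ (c + i) := by rw [hwdef, hc, hi, pow_add]
    refine le_antisymm (Nat.le_of_dvd (Nat.pow_pos M.hq.pos) ?_) ?_
    · rw [hwk]
      refine pow_dvd_pow q ((M.hq.pow_dvd_iff_le_factorization Nat.card_pos.ne').1 ?_)
      rw [← hwk]
      exact (Dvd.intro_left 2 (by ring)).trans hkdvd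
    · obtain ⟨Q⟩ : Nonempty (Sylow q G) := inferInstance
      haveI : Nontrivial (Q : Subgroup G) := (nontrivial_iff_ne_bot _).2 (Q.ne_bot_of_dvd_card
        ((hqw.mul_left 4).mul_left n |> fun h => hG ▸ h))
      haveI := Q.isPGroup'.center_nontrivial
      obtain ⟨z, hz1⟩ := exists_ne (1 : center (Q : Subgroup G))
      have hzQ : (Q : Subgroup G) ≤ centralizer ({((z : (Q : Subgroup G)) : G)} : Set G) := fun x hx =>
        mem_centralizer_singleton_iff.2 (congrArg Subtype.val (mem_center_iff.1 z.2 ⟨x, hx⟩))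
      have hzq : orderOf ((z : (Q : Subgroup G)) : G) = q := by
        obtain ⟨j, hj⟩ := IsPGroup.iff_orderOf.1 Q.isPGroup' (z : (Q : Subgroup G))
        rw [Subgroup.orderOf_coe]
        rcases M.ord_odd (x := ((z : (Q : Subgroup G)) : G)) (by rw [Subgroup.orderOf_coe, hj]; exact M.odd_q.pow)
          with h | h | h
        · exact absurd (Subtype.ext (Subtype.ext (orderOf_eq_one_iff.1 h))) hz1
        · rwa [Subgroup.orderOf_coe] at h
        · rw [Subgroup.orderOf_coe, hj] at h
          exact absurd ((Nat.prime_dvd_prime_iff_eq M.hr M.hq).1 (M.hr.dvd_of_dvd_pow h.symm.dvd)).symm M.qr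
      have h1 := card_dvd_of_le hzQ
      rw [Q.card_eq_multiplicity, hCy _ hzq, show k * (2 * w) = 2 * (w * k) by ring] at h1
      exact Nat.le_of_dvd (Nat.mul_pos (by omega) hk0)
        ((((Nat.coprime_primes M.hq Nat.prime_two).2 M.q2).pow_left _).dvd_of_dvd_mul_left h1)
  obtain ⟨yr, hyr⟩ := exists_prime_orderOf_dvd_card' (G := G) r M.dvd
  rcases Nat.eq_zero_or_pos i with hi0 | hi0
  · -- small centralisers of elements of order `q`
    rw [hi0, pow_zero] at hi
    rw [hi, mul_one] at hNq
    have hI : invNum y0 = 2 * w := by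
      rw [hwdef, ← K.card_inverting_in_centralizer F hy0 hy01]
      refine Nat.card_congr (Equiv.subtypeEquivRight fun g => ⟨fun hg => ⟨hg, ?_⟩, fun hg => hg.1⟩)
      have hgt : orderOf (g * t * g⁻¹) = 2 ∧ Commute (g * t * g⁻¹) y0 := by
        refine ⟨(orderOf_conj g t).trans F.ot, ?_⟩
        have h2 := (K.core_commute hy0).symm.inv_right.map (MulAut.conj g).toMonoidHom
        simp only [MulEquiv.coe_toMonoidHom, MulAut.conj_apply] at h2
        rwa [← conj_inv, hg.2, inv_inv] at h2
      obtain ⟨hsub, -⟩ := Nat.card_eq_one_iff_unique.1 (hk ▸ hi)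
      have e := congrArg Subtype.val (hsub.elim ⟨g * t * g⁻¹, hgt⟩ ⟨t, F.ot, (K.core_commute hy0).symm⟩)
      exact mul_inv_eq_iff_eq_mul.1 e
    have hpairs := K.pairs_eq hw (K.orderOf_core hy0 hy01 F.ot) hyr
    rw [hI, hN2q, hNq, ← hn] at hpairs
    have hords := M.card_by_orders
    rw [hN2q, hNq, ← hn, hG] at hords
    obtain ⟨w', rfl'⟩ : ∃ w', w = w' + 1 := ⟨w - 1, by omega⟩
    rw [rfl', Nat.add_sub_cancel] at hpairs hords
    have hN : num G r + 1 = n * (2 * (w' + 1) + 1) := by nlinarith [hords]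
    have hnpos : 0 < n := hnodd.pos
    rcases M.invNum_r hyr with h0 | hρ
    · -- elements of order `r` are not real
      rw [h0, mul_zero, add_zero] at hpairs
      have hn' : n = 1 + 2 * (w' + 1) + 4 * w' * (w' + 1) := by
        refine Nat.eq_of_mul_eq_mul_left hnpos ?_
        rw [hpairs]; ring
      set v := (Nat.card G).factorization r with hv
      have hnv : n = r ^ v := by
        have hrn : ∀ p, p.Prime → p ∣ n → p = r := by
          intro p hp hd
          haveI := Fact.mk hp
          obtain ⟨z, hz⟩ := exists_prime_orderOf_dvd_card' (G := G) p (hG ▸ hd.mul_right _)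
          have hqn : ¬ q ∣ n := by
            intro h
            rw [hn', show 1 + 2 * (w' + 1) + 4 * w' * (w' + 1) = (w' + 1) * (2 + 4 * w') + 1 by ring] at h
            exact M.hq.not_dvd_one ((Nat.dvd_add_right ((rfl' ▸ hqw).mul_right _)).1 h)
          rcases M.ord z with h | h | h | h | h
          · exact absurd (hz.symm.trans h) hp.ne_one
          · rw [hz.symm.trans h] at hd
            exact absurd (even_iff_two_dvd.2 hd) (Nat.not_even_iff_odd.2 hnodd)
          · exact absurd (hz.symm.trans h ▸ hd) hqn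
          · exact hz.symm.trans h
          · rw [hz.symm.trans h] at hp
            exact absurd hp (Nat.not_prime_mul (by norm_num) M.hq.ne_one)
        obtain ⟨j, hj⟩ : ∃ j, n = r ^ j :=
          ⟨_, Nat.eq_prime_pow_of_unique_prime_dvd hnpos.ne' fun {p} hp hd => hrn p hp hd⟩
        have h4 : ¬ r ∣ 4 * w := fun h => by
          have h' := M.r_not_dvd_centralizer F.ot
          rw [K.card_centralizer F] at h'
          exact h' h
        rw [hv, hG, Nat.factorization_mul hnpos.ne' (by omega), Finsupp.add_apply,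
          Nat.factorization_eq_zero_of_not_dvd h4, add_zero, hj, Nat.Prime.factorization_pow M.hr,
          Finsupp.single_eq_same]
      have hv2 : 2 ≤ v ∨ n = r := by
        rcases Nat.lt_or_ge v 2 with h | h
        · interval_cases v
          · exfalso
            rw [pow_zero] at hnv
            omega
          · exact Or.inr (by simpa using hnv)
        · exact Or.inl h
      set σ := Nat.card (Sylow r G) with hσ
      have hσmod : σ ≡ 1 [MOD r] := card_sylow_modEq_one r G
      have hle := M.num_r_le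
      rw [← hv, ← hnv, ← hσ] at hle
      obtain ⟨R⟩ : Nonempty (Sylow r G) := inferInstance
      have hσdvd : σ ∣ 4 * w := by
        have h1 : σ ∣ (R : Subgroup G).index := R.card_dvd_index
        have h2 : (R : Subgroup G).index = 4 * w := by
          refine Nat.eq_of_mul_eq_mul_left hnpos ?_
          conv_lhs => rw [hnv, hv, ← R.card_eq_multiplicity, card_mul_index, hG]
        rwa [h2] at h1
      have hn1 : n - 1 = 2 * (w' + 1) + 4 * w' * (w' + 1) := by omega
      rw [hn1] at hle
      have h8 : num G r = 8 * ((w' + 1) * (w' + 1) * (w' + 1)) := by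
        have : n * (2 * (w' + 1) + 1) = 8 * ((w' + 1) * (w' + 1) * (w' + 1)) + 1 := by
          rw [hn']; ring
        omega
      obtain ⟨d, hd⟩ := hσdvd
      have hσw : 2 * w < σ := by
        by_contra hcon
        have h2 : σ * (2 * (w' + 1) + 4 * w' * (w' + 1)) ≤
            2 * (w' + 1) * (2 * (w' + 1) + 4 * w' * (w' + 1)) := Nat.mul_le_mul_right _ (by omega)
        nlinarith [hle, h8, h2]
      have hd1 : d = 1 := by
        rcases Nat.lt_or_ge d 2 with h | h
        · interval_cases d <;> omega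
        · have := Nat.mul_le_mul_left σ h
          omega
      rw [hd1, mul_one] at hd
      rw [← hd, rfl'] at hσmod
      have hr4 : r ∣ 4 * w' + 3 := by
        have := (Nat.modEq_iff_dvd' (show 1 ≤ 4 * (w' + 1) by omega)).1 hσmod.symm
        rwa [show 4 * (w' + 1) - 1 = 4 * w' + 3 by omega] at this
      have hrn : r ∣ n := by
        rcases hv2 with h | h
        · rw [hnv]; exact dvd_pow_self r (by omega)
        · rw [h]
      have h4n : 4 * n = (4 * w' + 3) * (4 * w' + 3) + 3 := by rw [hn']; ring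
      have hr3 : r = 3 := (Nat.prime_dvd_prime_iff_eq M.hr Nat.prime_three).1
        ((Nat.dvd_add_right (hr4.mul_right _)).1 (h4n ▸ hrn.mul_left 4))
      rcases hv2 with h | h
      · have h9 : 9 ∣ n := by
          rw [hnv, hr3]
          exact (show (9 : ℕ) = 3 ^ 2 by norm_num) ▸ pow_dvd_pow 3 h
        have := (Nat.dvd_add_right (Nat.mul_dvd_mul (hr3 ▸ hr4) (hr3 ▸ hr4))).1 (h4n ▸ h9.mul_left 4)
        norm_num at this
      · rw [hr3] at h
        nlinarith [hn', h, hw3, rfl']
    · -- elements of order `r` are real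
      set ρ := Nat.card (centralizer ({yr} : Set G)) with hρdef
      rw [hρ] at hpairs
      have hρdvd : n ∣ ρ := by
        have h1 : n ∣ num G r * ρ := by
          have h2 : n ∣ n * (1 + 2 * (w' + 1)) + n * w' * (2 * (w' + 1)) + n * w' * (2 * (w' + 1)) :=
            ⟨1 + 2 * (w' + 1) + w' * (2 * (w' + 1)) + w' * (2 * (w' + 1)), by ring⟩
          exact (Nat.dvd_add_right h2).1 (hpairs ▸ dvd_mul_right n n)
        have hcop : n.Coprime (num G r) := Nat.coprime_of_dvd fun p hp h1 h2 => hp.not_dvd_one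
          ((Nat.dvd_add_right h2).1 (hN ▸ h1.mul_right _))
        exact hcop.dvd_of_dvd_mul_left h1
      have hρn : ρ ∣ n := by
        have h1 : ρ ∣ n * (4 * w) := hG ▸ card_subgroup_dvd_card _
        have hcop : ρ.Coprime (4 * w) := Nat.coprime_of_dvd fun p hp h1 h2 => by
          haveI := Fact.mk hp
          obtain ⟨z, hz⟩ := exists_prime_orderOf_dvd_card' (G := centralizer ({yr} : Set G)) p h1
          rw [← Subgroup.orderOf_coe] at hz
          rcases M.ord_commute_r hyr (mem_centralizer_singleton_iff.1 z.2) with h | h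
          · exact hp.ne_one (hz.symm.trans h)
          · have h' := M.r_not_dvd_centralizer F.ot
            rw [K.card_centralizer F] at h'
            exact h' (hz.symm.trans h ▸ h2)
        exact hcop.dvd_of_dvd_mul_right h1
      rw [Nat.dvd_antisymm hρn hρdvd] at hpairs
      have hnn : n = 1 + 2 * (w' + 1) + 4 * w' * (w' + 1) + num G r := by
        refine Nat.eq_of_mul_eq_mul_left hnpos ?_
        rw [hpairs]; ring
      nlinarith [hnn, hN, hw3, rfl']
  · -- large centralisers
    have hqk : q ∣ k := hi ▸ dvd_pow_self q hi0.ne'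
    have hqw1 : ¬ q ∣ w - 1 := fun h => M.hq.not_dvd_one
      ((Nat.dvd_add_right h).1 (by rw [Nat.sub_add_cancel (by omega)]; exact hqw))
    have hqn : q ∣ n := (M.hq.dvd_mul.1 (hNq ▸ hqk.mul_left _)).resolve_right hqw1
    have hedge : ∀ e, Frame P t e → ¬ core q t ≤ centralizer (core q e : Set G) := by
      intro e F' h
      refine K.no_edge F' ?_
      intro x hx
      rw [mem_centralizer_iff]
      exact fun z hz => (mem_centralizer_iff.1 (h hz) x hx).symm
    obtain ⟨y, hy, hyA, hyB⟩ := K.exists_outside (hedge s F) (hedge (t * s) (F.third M))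
    have hy1 : y ≠ 1 := fun e => hyA (e ▸ one_mem _)
    have hnc : ∀ e : G, y ∉ centralizer (core q e : Set G) →
        ¬ core q e ≤ centralizer ({y} : Set G) := fun e he h => he (mem_centralizer_iff.2 fun z hz =>
      mem_centralizer_singleton_iff.1 (h hz))
    have hyq := K.orderOf_core hy hy1 F.ot
    obtain ⟨J, hJ⟩ := K.dvd_invNum F hy hy1 (hnc _ hyA) (hnc _ hyB)
    rw [hkall y hyq] at hJ
    have hpairs := K.pairs_eq hw hyq hyr
    rw [hJ, hN2q, ← hn, show num G q * (q * k * J) = n * (w - 1) * (q * J) by rw [← hNq]; ring] at hpairs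
    obtain ⟨Mq, hMq⟩ : n ∣ num G r * invNum yr := by
      have h2 : n ∣ n * (1 + 2 * w) + n * (w - 1) * (q * J) + n * (w - 1) * (2 * w) :=
        ⟨1 + 2 * w + (w - 1) * (q * J) + (w - 1) * (2 * w), by ring⟩
      exact (Nat.dvd_add_right h2).1 (hpairs ▸ dvd_mul_right n n)
    have hqM : q ∣ Mq := by
      set g := (Nat.card G).factorization q with hg
      obtain ⟨m', hm'⟩ : q ^ g ∣ Nat.card G := Nat.ordProj_dvd _ _
      have hm'q : ¬ q ∣ m' := fun h => Nat.pow_succ_factorization_not_dvd Nat.card_pos.ne' M.hq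
        (hm'.symm ▸ pow_succ q g ▸ Nat.mul_dvd_mul_left _ h)
      have h1 : q ^ g * w ∣ q ^ g * (m' * Mq) := by
        rw [← mul_assoc, ← hm', hG, show n * (4 * w) * Mq = n * Mq * (4 * w) by ring, ← hMq]
        exact Nat.mul_dvd_mul (M.qpart_dvd_num_r.mul_right _) (dvd_mul_left w 4)
      have h2 : q ∣ m' * Mq := hqw.trans (Nat.dvd_of_mul_dvd_mul_left (Nat.pow_pos M.hq.pos) h1)
      exact (M.hq.dvd_mul.1 h2).resolve_left hm'q
    rw [hMq] at hpairs
    have hnn : n = 1 + (2 * w + (w - 1) * (q * J) + (w - 1) * (2 * w) + Mq) := by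
      refine Nat.eq_of_mul_eq_mul_left hnodd.pos ?_
      rw [hpairs]; ring
    refine M.hq.not_dvd_one ((Nat.dvd_add_left ?_).1 (hnn ▸ hqn))
    exact dvd_add (dvd_add (dvd_add (hqw.mul_left 2) ((dvd_mul_right q J).mul_left _))
      ((hqw.mul_left 2).mul_left _)) hqM

end Klein

end CfsgLib.Recognition.FiveOrbits
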