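import Cfsg.Agent.Lib.Recognition.FiveOrbits.Mixed.Cores
import Cfsg.Agent.Lib.Frobenius.Divisibility

/-!
# The mixed case when involution centralisers normalise a Sylow 2-subgroup
-/

set_option autoImplicit false
set_option linter.unusedSectionVars false

open Subgroup
open scoped Pointwise

namespace CfsgLib.Recognition.FiveOrbits

open CfsgLib.Involution.Dihedral CfsgLib.Involution.Basic

variable {G : Type*} [Group G] [Finite G]

/-- A surjection onto a class, counted in a subgroup. -/
theorem card_eq_orbit_mul (H : Subgroup G) (t : G) (S : Set G)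
    (hS : ∀ a, a ∈ S ↔ ∃ g ∈ H, g * t * g⁻¹ = a) :
    Nat.card H = Nat.card S * Nat.card ↥(H ⊓ centralizer ({t} : Set G)) := by
  classical
  set C := centralizer ({t} : Set G) with hCdef
  have key : ∀ g h : G, g * t * g⁻¹ = h * t * h⁻¹ ↔ g⁻¹ * h ∈ C := by
    intro g h
    rw [hCdef, mem_centralizer_singleton_iff]
    constructor
    · intro e
      calc g⁻¹ * h * t = g⁻¹ * (h * t * h⁻¹) * h := by group
        _ = g⁻¹ * (g * t * g⁻¹) * h := by rw [e]
        _ = t * (g⁻¹ * h) := by group
    · intro e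
      calc g * t * g⁻¹ = g * (t * (g⁻¹ * h)) * h⁻¹ := by group
        _ = g * (g⁻¹ * h * t) * h⁻¹ := by rw [e]
        _ = h * t * h⁻¹ := by group
  let f : H ⧸ C.subgroupOf H → S := fun c => Quotient.liftOn' c
    (fun g : H => (⟨(g : G) * t * (g : G)⁻¹, (hS _).2 ⟨g, g.2, rfl⟩⟩ : S))
    (fun g h hgh => Subtype.ext ((key _ _).2 (by
      have := QuotientGroup.leftRel_apply.1 hgh
      exact this)))
  have hf : Function.Bijective f := by
    constructor
    · intro c d
      induction c using Quotient.inductionOn' with | h g => ?_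
      induction d using Quotient.inductionOn' with | h k => ?_
      intro e
      exact QuotientGroup.eq.2 ((key _ _).1 (congrArg Subtype.val e))
    · rintro ⟨a, ha⟩
      obtain ⟨g, hg, e⟩ := (hS a).1 ha
      exact ⟨Quotient.mk'' ⟨g, hg⟩, Subtype.ext e⟩
  rw [← Nat.card_eq_of_bijective f hf, ← inf_subgroupOf_left,
    ← Nat.card_congr (subgroupOfEquivOfLe (inf_le_left : H ⊓ C ≤ H)).toEquiv,
    ← Subgroup.card_eq_card_quotient_mul_card_subgroup]

/-- A surjection onto a class, counted in a subgroup containing the centraliser. -/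
theorem card_eq_image_mul (H : Subgroup G) (t : G) (hC : centralizer ({t} : Set G) ≤ H) (S : Set G)
    (hS : ∀ a, a ∈ S ↔ ∃ g ∈ H, g * t * g⁻¹ = a) :
    Nat.card H = Nat.card S * Nat.card (centralizer ({t} : Set G)) := by
  rw [card_eq_orbit_mul H t S hS, inf_eq_right.2 hC]

namespace Mixed

variable {q r : ℕ} (M : Mixed G q r)
include M

theorem orderOf_eq_two_of_mem {E : Sylow 2 G} {a : G} (ha : a ∈ E) (h1 : a ≠ 1) : orderOf a = 2 :=
  orderOf_eq_two (M.sq_of_isPGroup E.isPGroup' ha) h1

theorem orderOf_sq {x : G} (h : orderOf x = 2 * q) : orderOf (x ^ 2) = q := by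
  rw [orderOf_pow_of_dvd two_ne_zero (h ▸ dvd_mul_right 2 q), h, Nat.mul_div_cancel_left _ two_pos]

theorem orderOf_pow_q {x : G} (h : orderOf x = 2 * q) : orderOf (x ^ q) = 2 := by
  rw [orderOf_pow_of_dvd M.hq.ne_zero (h ▸ dvd_mul_left q 2), h, Nat.mul_div_cancel _ M.hq.pos]

/-- The number of solutions of `x ^ |G|_r = 1`. -/
theorem not_dvd_num_r : ¬ r ∣ num G r := by
  classical
  haveI : Fact r.Prime := ⟨M.hr⟩
  obtain ⟨v, hv⟩ : ∃ v, (Nat.card G).factorization r = v + 1 := by
    have := M.hr.factorization_pos_of_dvd Nat.card_pos.ne' M.dvd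
    exact ⟨_ - 1, (Nat.sub_add_cancel this).symm⟩
  have h1 := CfsgLib.Frobenius.Divisibility.dvd_card_pow_eq_one
    (Nat.ordProj_dvd (Nat.card G) r)
  rw [hv] at h1
  letI := Fintype.ofFinite G
  have h2 : Nat.card {g : G // g ^ (r ^ (v + 1)) = 1} = num G r + 1 := by
    rw [num, Nat.card_eq_fintype_card, Nat.card_eq_fintype_card, Fintype.card_subtype,
      Fintype.card_subtype]
    have : ({g : G | g ^ (r ^ (v + 1)) = 1} : Finset G) =
        insert 1 ({g : G | orderOf g = r} : Finset G) := by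
      ext g
      simp only [Finset.mem_filter, Finset.mem_univ, true_and, Finset.mem_insert]
      constructor
      · intro hg
        obtain ⟨i, -, hi⟩ := (Nat.dvd_prime_pow M.hr).1 (orderOf_dvd_of_pow_eq_one hg)
        rcases Nat.eq_zero_or_pos i with rfl | hi0
        · exact Or.inl (orderOf_eq_one_iff.1 (by simpa using hi))
        · right
          have hd : r ∣ orderOf g := hi ▸ dvd_pow_self r hi0.ne'
          rcases M.ord g with h | h | h | h | h
          · rw [h] at hd; exact absurd hd M.hr.not_dvd_one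
          · rw [h] at hd; exact absurd ((Nat.prime_dvd_prime_iff_eq M.hr Nat.prime_two).1 hd) M.r2
          · rw [h] at hd; exact absurd ((Nat.prime_dvd_prime_iff_eq M.hr M.hq).1 hd).symm M.qr
          · exact h
          · rw [h] at hd
            rcases M.hr.dvd_mul.1 hd with d | d
            · exact absurd ((Nat.prime_dvd_prime_iff_eq M.hr Nat.prime_two).1 d) M.r2
            · exact absurd ((Nat.prime_dvd_prime_iff_eq M.hr M.hq).1 d).symm M.qr
      · rintro (rfl | hg)
        · exact one_pow _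
        · exact orderOf_dvd_iff_pow_eq_one.1 (hg ▸ dvd_pow_self r (Nat.succ_ne_zero v))
    rw [this, Finset.card_insert_of_notMem (by simp [M.hr.ne_one.symm])]
  rw [h2] at h1
  intro hd
  exact M.hr.not_dvd_one ((Nat.dvd_add_right hd).1 ((dvd_pow_self r (Nat.succ_ne_zero v)).trans h1))

theorem r_not_dvd_centralizer {t : G} (ht : orderOf t = 2) :
    ¬ r ∣ Nat.card (centralizer ({t} : Set G)) := fun h =>
  (M.prime_centralizer ht M.hr h).elim M.r2 fun e => M.qr e.symm

/-- The case where the centralisers of the involutions of `E` normalise `E`. -/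
theorem absurd_of_centralizers_le (E : Sylow 2 G) (h4 : 4 ≤ Nat.card (E : Subgroup G))
    (hC : ∀ t ∈ E, orderOf t = 2 →
      centralizer ({t} : Set G) ≤ normalizer ((E : Subgroup G) : Set G)) : False := by
  classical
  letI := Fintype.ofFinite G
  haveI : Fact (Nat.Prime 2) := ⟨Nat.prime_two⟩
  haveI : Fact r.Prime := ⟨M.hr⟩
  set H := normalizer ((E : Subgroup G) : Set G) with hH
  have hEH : (E : Subgroup G) ≤ H := le_normalizer
  have smulE : ∀ h ∈ H, h • E = E := fun h hh => Sylow.smul_eq_iff_mem_normalizer.2 hh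
  have inE : ∀ D : Subgroup G, IsPGroup 2 D → D ≤ H → D ≤ (E : Subgroup G) := by
    intro D hD hDH
    obtain ⟨h, hh, hle⟩ := exists_smul_ge hEH hD hDH
    rwa [smulE h hh] at hle
  have invE : ∀ x ∈ H, orderOf x = 2 → x ∈ E := fun x hx h2 =>
    inE _ (isPGroup_zpowers_of_two h2) (zpowers_le.2 hx) (mem_zpowers x)
  have uniq : ∀ a ∈ E, orderOf a = 2 → ∀ P : Sylow 2 G, a ∈ P → P = E := by
    intro a haE ha P haP
    obtain ⟨h, hh, e⟩ := exists_smul_eq_in hEH ((M.sylow_le_centralizer P haP).trans (hC a haE ha))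
    rw [← e, smulE h hh]
  have trans : ∀ a ∈ E, orderOf a = 2 → ∀ g : G, g * a * g⁻¹ ∈ E → g ∈ H := by
    intro a haE ha g hg
    refine Sylow.smul_eq_iff_mem_normalizer.1 (uniq (g * a * g⁻¹) hg ((orderOf_conj g a).trans ha) _ ?_)
    rw [mem_smul_sylow_iff]
    simpa [mul_assoc] using haE
  obtain ⟨t, htE, ht⟩ := exists_involution_of_even (E : Subgroup G)
    (even_iff_two_dvd.2 (E.dvd_card_of_dvd_card M.two_dvd))
  obtain ⟨w0, hw0, hw0H⟩ : ∃ w : G, orderOf w = 2 ∧ w ∉ H := by
    by_contra hcon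
    push Not at hcon
    refine M.normalizer_sylow_ne_top E (eq_top_iff.2 fun g _ => trans t htE ht g ?_)
    exact invE _ (hcon _ ((orderOf_conj g t).trans ht)) ((orderOf_conj g t).trans ht)
  have hconj : ∀ a ∈ E, orderOf a = 2 → ∀ w, orderOf w = 2 → w ∉ H → IsConj a w := by
    intro a haE ha w hw hwH
    have hnc : ¬ Commute a w := fun h =>
      hwH (hC a haE ha (mem_centralizer_singleton_iff.2 h.symm))
    have hodd : Odd (orderOf (a * w)) := by
      rcases M.ord (a * w) with h | h | h | h | h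
      · rw [h]; exact odd_one
      · exfalso
        refine hnc ?_
        have := mul_self h
        show a * w = w * a
        calc a * w = (a * w)⁻¹ := (inv_eq h).symm
          _ = w * a := by rw [mul_inv_rev, inv_eq ha, inv_eq hw]
      · rw [h]; exact M.odd_q
      · rw [h]; exact M.odd_r
      · exfalso
        set v := (a * w) ^ q with hv
        have hv2 : orderOf v = 2 := M.orderOf_pow_q h
        have h1 : a * v * a⁻¹ = v := by
          rw [hv, conj_pow (conj_mul_left ha hw), ← hv, inv_eq hv2]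
        have h1' : Commute v a := (show Commute a v from mul_inv_eq_iff_eq_mul.1 h1).symm
        have h2 : Commute v (a * w) := (Commute.refl (a * w)).pow_left q
        have h3 : Commute v w := by
          have := h1'.mul_right h2
          rwa [← mul_assoc, mul_self ha, one_mul] at this
        have hvE : v ∈ E := invE v (hC a haE ha (mem_centralizer_singleton_iff.2 h1')) hv2
        exact hwH (hC v hvE hv2 (mem_centralizer_singleton_iff.2 h3.symm))
    obtain ⟨d, -, hd⟩ := exists_conj_of_odd ha hw hodd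
    exact isConj_iff.2 ⟨d, hd⟩
  have hall : ∀ u : G, orderOf u = 2 → IsConj t u := by
    intro u hu
    by_cases huH : u ∈ H
    · exact (hconj t htE ht w0 hw0 hw0H).trans (hconj u (invE u huH hu) hu w0 hw0 hw0H).symm
    · exact hconj t htE ht u hu huH
  set C := centralizer ({t} : Set G) with hCdef
  let j := Nat.card ({a : G | a ∈ E ∧ orderOf a = 2} : Set G)
  let n := num G 2
  have hHcard : Nat.card H = j * Nat.card C := by
    refine card_eq_image_mul H t (hC t htE ht) _ fun a => ?_
    constructor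
    · rintro ⟨haE, ha⟩
      obtain ⟨g, hg⟩ := isConj_iff.1 (hall a ha)
      exact ⟨g, trans t htE ht g (hg ▸ haE), hg⟩
    · rintro ⟨g, hg, rfl⟩
      exact ⟨(mem_normalizer_iff.1 hg t).1 htE, (orderOf_conj g t).trans ht⟩
  have hGcard : Nat.card G = n * Nat.card C := by
    rw [← card_top (G := G)]
    refine card_eq_image_mul ⊤ t le_top {a : G | orderOf a = 2} fun a => ?_
    constructor
    · intro ha
      obtain ⟨g, hg⟩ := isConj_iff.1 (hall a ha)
      exact ⟨g, mem_top g, hg⟩
    · rintro ⟨g, -, rfl⟩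
      exact (orderOf_conj g t).trans ht
  have hnm : n = H.index * j := by
    refine Nat.eq_of_mul_eq_mul_right (Nat.card_pos (α := C)) ?_
    rw [← hGcard, mul_assoc, ← hHcard, index_mul_card]
  have hj : j + 1 = Nat.card (E : Subgroup G) := by
    show Nat.card ({a : G | a ∈ E ∧ orderOf a = 2} : Set G) + 1 = _
    have h1 : (((E : Subgroup G) : Set G) \ {1}) = {a : G | a ∈ E ∧ orderOf a = 2} := by
      ext a
      simp only [Set.mem_diff, SetLike.mem_coe, Set.mem_singleton_iff, Set.mem_setOf_eq]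
      exact ⟨fun h => ⟨h.1, M.orderOf_eq_two_of_mem h.1 h.2⟩, fun h => ⟨h.1, ne_one h.2⟩⟩
    rw [← h1, Nat.card_coe_set_eq, Set.ncard_diff_singleton_of_mem (one_mem _), ← Nat.card_coe_set_eq]
    exact Nat.sub_add_cancel Nat.card_pos
  -- elements of order `q` are not real
  have hnonreal : ∀ g c : G, orderOf c = q → g * c * g⁻¹ ≠ c⁻¹ := by
    intro g c hc hgc
    obtain ⟨u, hu, huc⟩ := M.exists_involution_of_q hc
    obtain ⟨k, hk⟩ := isConj_iff.1 (hall u hu).symm
    -- move everything so that the involution is `t`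
    set c' := k * c * k⁻¹ with hc'
    set g' := k * g * k⁻¹
    have hg' : g' * c' * g'⁻¹ = c'⁻¹ := by
      show k * g * k⁻¹ * (k * c * k⁻¹) * (k * g * k⁻¹)⁻¹ = (k * c * k⁻¹)⁻¹
      calc k * g * k⁻¹ * (k * c * k⁻¹) * (k * g * k⁻¹)⁻¹ = k * (g * c * g⁻¹) * k⁻¹ := by group
        _ = (k * c * k⁻¹)⁻¹ := by rw [hgc]; group
    have hc'o : orderOf c' = q := (orderOf_conj k c).trans hc
    have htc : Commute t c' := by
      show t * c' = c' * t
      rw [← hk, hc']
      calc k * u * k⁻¹ * (k * c * k⁻¹) = k * (u * c) * k⁻¹ := by group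
        _ = k * (c * u) * k⁻¹ := by rw [huc.eq]
        _ = k * c * k⁻¹ * (k * u * k⁻¹) := by group
    set Cc := centralizer ({c'} : Set G) with hCc
    have htCc : t ∈ Cc := mem_centralizer_singleton_iff.2 htc
    obtain ⟨S, htS⟩ := (isPGroup_zpowers_of_two (show orderOf (⟨t, htCc⟩ : Cc) = 2 by
      rw [Subgroup.orderOf_mk, ht])).exists_le_sylow
    let T : Subgroup G := (S : Subgroup Cc).map Cc.subtype
    have hTp : IsPGroup 2 T := S.isPGroup'.map _
    have htT : t ∈ T := ⟨_, htS (mem_zpowers _), rfl⟩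
    have hTE : T ≤ (E : Subgroup G) := inE T hTp (fun y hy =>
      hC t htE ht (mem_centralizer_singleton_iff.2 (M.comm_of_isPGroup hTp hy htT)))
    have hnorm : ∀ y ∈ Cc, g' * y * g'⁻¹ ∈ Cc := by
      intro y hy
      have e := mem_centralizer_singleton_iff.1 hy
      rw [hCc, mem_centralizer_singleton_iff]
      have e2 : y * c'⁻¹ = c'⁻¹ * y := (show Commute y c' from e).inv_right.eq
      have e3 : g' * c'⁻¹ * g'⁻¹ = c' := by
        rw [← conj_inv, hg', inv_inv]
      calc g' * y * g'⁻¹ * c' = g' * y * g'⁻¹ * (g' * c'⁻¹ * g'⁻¹) := by rw [e3]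
        _ = g' * (y * c'⁻¹) * g'⁻¹ := by group
        _ = g' * (c'⁻¹ * y) * g'⁻¹ := by rw [e2]
        _ = g' * c'⁻¹ * g'⁻¹ * (g' * y * g'⁻¹) := by group
        _ = c' * (g' * y * g'⁻¹) := by rw [e3]
    let T' : Subgroup G := T.map (MulAut.conj g').toMonoidHom
    have hT'Cc : T' ≤ Cc := by
      rintro _ ⟨y, hy, rfl⟩
      exact hnorm y (map_subtype_le _ hy)
    obtain ⟨h, hh⟩ := exists_conj_le S ((hTp.map _).of_equiv (subgroupOfEquivOfLe hT'Cc).symm :
      IsPGroup 2 (T'.subgroupOf Cc))
    set x := (h : G) * g' with hx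
    have hxt : x * t * x⁻¹ ∈ T := by
      have hm : (⟨g' * t * g'⁻¹, hT'Cc ⟨t, htT, rfl⟩⟩ : Cc) ∈ T'.subgroupOf Cc := ⟨t, htT, rfl⟩
      refine ⟨_, hh _ hm, ?_⟩
      show (h : G) * (g' * t * g'⁻¹) * (h : G)⁻¹ = x * t * x⁻¹
      rw [hx]; group
    have hxH : x ∈ H := trans t htE ht x (hTE hxt)
    have hxc : x * c' * x⁻¹ = c'⁻¹ := by
      have e : (h : G) * c' = c' * h := mem_centralizer_singleton_iff.1 h.2
      calc x * c' * x⁻¹ = (h : G) * (g' * c' * g'⁻¹) * (h : G)⁻¹ := by rw [hx]; group
        _ = (h : G) * c'⁻¹ * (h : G)⁻¹ := by rw [hg']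
        _ = c'⁻¹ := by
          rw [← conj_inv, e, mul_inv_cancel_right]
    obtain ⟨a, m, hm, hord⟩ := Nat.exists_eq_two_pow_mul_odd (orderOf_pos x).ne'
    set e2 := x ^ m with he2
    have he2o : orderOf e2 = 2 ^ a := by
      rw [he2, orderOf_pow' _ hm.pos.ne', hord, Nat.gcd_mul_left_left, Nat.mul_div_cancel _ hm.pos]
    have he2E : e2 ∈ E := inE _ (isPGroup_zpowers he2o) (zpowers_le.2 (pow_mem hxH m)) (mem_zpowers _)
    have he2c : e2 * c' * e2⁻¹ = c'⁻¹ := pow_inverts hxc hm
    have hc'H : c' ∈ H := hC t htE ht (mem_centralizer_singleton_iff.2 htc.symm)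
    have h3 : c' * e2 * c'⁻¹ ∈ (E : Subgroup G) := (mem_normalizer_iff.1 hc'H e2).1 he2E
    have h4 : c' * c' ∈ (E : Subgroup G) := by
      have h5 := (E : Subgroup G).mul_mem h3 ((E : Subgroup G).inv_mem he2E)
      convert h5 using 1
      calc c' * c' = c' * (c'⁻¹)⁻¹ := by rw [inv_inv]
        _ = c' * (e2 * c' * e2⁻¹)⁻¹ := by rw [he2c]
        _ = c' * e2 * c'⁻¹ * e2⁻¹ := by group
    have h5 := M.sq_of_isPGroup E.isPGroup' h4
    have h6 := orderOf_dvd_of_pow_eq_one (show c' ^ (2 * 2) = 1 by rw [pow_mul, pow_two, pow_two]; exact h5)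
    rw [hc'o] at h6
    exact M.q2 ((Nat.prime_dvd_prime_iff_eq M.hq Nat.prime_two).1 (M.hq.dvd_of_dvd_pow (n := 2) h6))
  have hpairr : ∀ a b : G, orderOf a = 2 → orderOf b = 2 → ¬ Commute a b → orderOf (a * b) = r := by
    intro a b ha hb hnc
    have hinv := conj_mul_left ha hb
    rcases M.ord (a * b) with h | h | h | h | h
    · exfalso
      have h1 := orderOf_eq_one_iff.1 h
      rw [mul_eq_one_iff_eq_inv, inv_eq hb] at h1
      exact hnc (by rw [h1])
    · exfalso
      refine hnc ?_
      show a * b = b * a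
      calc a * b = (a * b)⁻¹ := (inv_eq h).symm
        _ = b * a := by rw [mul_inv_rev, inv_eq ha, inv_eq hb]
    · exact absurd hinv (hnonreal a _ h)
    · exact h
    · refine absurd ?_ (hnonreal a _ (M.orderOf_sq h))
      exact conj_pow hinv 2
  -- commuting involutions
  have hcomm : ∀ a : G, orderOf a = 2 → Nat.card {b : G // orderOf b = 2 ∧ Commute b a} = j := by
    intro a ha
    obtain ⟨k, hk⟩ := isConj_iff.1 (hall a ha).symm
    refine Nat.card_congr (Equiv.subtypeEquiv (MulAut.conj k).toEquiv fun b => ?_)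
    show _ ↔ MulAut.conj k b ∈ E ∧ orderOf (MulAut.conj k b) = 2
    rw [MulEquiv.orderOf_eq]
    constructor
    · rintro ⟨hb, hba⟩
      refine ⟨invE _ (hC t htE ht (mem_centralizer_singleton_iff.2 ?_)) ?_, hb⟩
      · have := hba.map (MulAut.conj k).toMonoidHom
        simp only [MulEquiv.coe_toMonoidHom, MulAut.conj_apply, hk] at this ⊢
        exact this.eq
      · rw [MulEquiv.orderOf_eq]; exact hb
    · rintro ⟨hbE, hb⟩
      refine ⟨hb, ?_⟩
      have hc : Commute (MulAut.conj k b) (MulAut.conj k a) := by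
        show MulAut.conj k b * MulAut.conj k a = _
        rw [MulAut.conj_apply k a, hk]
        exact M.sylow_comm E _ hbE _ htE
      have := hc.map (MulAut.conj k).symm.toMonoidHom
      simpa [mul_assoc] using this
  have hnon : Nat.card {p : G × G // orderOf p.1 = 2 ∧ orderOf p.2 = 2 ∧ orderOf (p.1 * p.2) = r} =
      n * (n - j) := by
    let e : {p : G × G // orderOf p.1 = 2 ∧ orderOf p.2 = 2 ∧ orderOf (p.1 * p.2) = r} ≃
        Σ a : {a : G // orderOf a = 2}, {b : G // orderOf b = 2 ∧ ¬ Commute b a.1} :=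
      { toFun := fun p => ⟨⟨p.1.1, p.2.1⟩, p.1.2, p.2.2.1, fun hc => by
          have h2 : (p.1.1 * p.1.2) ^ 2 = 1 := by
            rw [hc.symm.mul_pow, pow_two, pow_two, mul_self p.2.1, mul_self p.2.2.1, one_mul]
          have := Nat.le_of_dvd two_pos (orderOf_dvd_of_pow_eq_one h2)
          rw [p.2.2.2] at this
          have := M.r3
          omega⟩
        invFun := fun s => ⟨(s.1.1, s.2.1), s.1.2, s.2.2.1,
          hpairr _ _ s.1.2 s.2.2.1 fun h => s.2.2.2 h.symm⟩
        left_inv := fun p => rfl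
        right_inv := fun s => rfl }
    have hfib : ∀ a : {a : G // orderOf a = 2},
        Nat.card {b : G // orderOf b = 2 ∧ ¬ Commute b a.1} = n - j := by
      intro a
      have h1 := hcomm a.1 a.2
      rw [Nat.card_eq_fintype_card, Fintype.card_subtype] at h1 ⊢
      show _ = num G 2 - j
      rw [num, Nat.card_eq_fintype_card, Fintype.card_subtype, ← h1]
      have h2 := Finset.card_filter_add_card_filter_not (s := ({b : G | orderOf b = 2} : Finset G))
        (p := fun b => Commute b a.1)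
      rw [Finset.filter_filter, Finset.filter_filter] at h2
      omega
    rw [Nat.card_congr e, Nat.card_sigma, Finset.sum_congr rfl (fun a _ => hfib a), Finset.sum_const,
      Finset.card_univ, ← Nat.card_eq_fintype_card, smul_eq_mul]
    rfl
  obtain ⟨y, hy⟩ := exists_prime_orderOf_dvd_card' (G := G) r M.dvd
  rw [card_pairs_order (by have := M.r3; omega) (fun x hx => M.invNum_eq (hx.trans hy.symm))] at hnon
  have hindex : 1 < H.index := one_lt_index_of_ne_top (M.normalizer_sylow_ne_top E)
  have hj3 : 3 ≤ j := by omega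
  have hnj : n - j = j * (H.index - 1) := by
    rw [hnm, Nat.mul_sub, mul_one, mul_comm]
  have hpos : 0 < n * (n - j) := by
    have : 0 < j * (H.index - 1) := Nat.mul_pos (by omega) (by omega)
    have hn0 : 0 < n := by rw [hnm]; exact Nat.mul_pos (by omega) (by omega)
    rw [hnj]
    exact Nat.mul_pos hn0 this
  rcases M.invNum_r hy with h0 | hρ
  · rw [h0, mul_zero] at hnon
    omega
  -- `r` does not divide `n - j`
  have hrn : ¬ r ∣ n - j := by
    intro hd
    set v := (Nat.card G).factorization r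
    have hv : r ^ v ∣ n := by
      have h1 := Nat.ordProj_dvd (Nat.card G) r
      conv at h1 => rhs; rw [hGcard]
      exact (((M.hr.coprime_iff_not_dvd).2 (M.r_not_dvd_centralizer ht)).pow_left v).dvd_of_dvd_mul_right h1
    have h2 : r ^ (v + 1) ∣ num G r * invNum y := by
      rw [hnon, pow_succ]; exact Nat.mul_dvd_mul hv hd
    have h3 := (((M.hr.coprime_iff_not_dvd).2 M.not_dvd_num_r).pow_left (v + 1)).dvd_of_dvd_mul_left h2
    rw [hρ] at h3
    exact Nat.pow_succ_factorization_not_dvd Nat.card_pos.ne' M.hr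
      (h3.trans (card_subgroup_dvd_card _))
  -- pigeonhole on cosets
  obtain ⟨u, u', hne, huu⟩ : ∃ u u' : {u : G // orderOf u = 2 ∧ u ∉ H}, u ≠ u' ∧
      ((u.1 : G) : G ⧸ H) = ((u'.1 : G) : G ⧸ H) := by
    have hcardT : Nat.card {u : G // orderOf u = 2 ∧ u ∉ H} = n - j := by
      show _ = num G 2 - Nat.card ({a : G | a ∈ E ∧ orderOf a = 2} : Set G)
      rw [num, Nat.card_eq_fintype_card, Nat.card_eq_fintype_card, Nat.card_eq_fintype_card,
        Fintype.card_subtype, Fintype.card_subtype]
      have h2 := Finset.card_filter_add_card_filter_not (s := ({b : G | orderOf b = 2} : Finset G))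
        (p := fun b => b ∈ H)
      rw [Finset.filter_filter, Finset.filter_filter] at h2
      have h3 : ({b : G | orderOf b = 2 ∧ b ∈ H} : Finset G).card =
          Fintype.card ({a : G | a ∈ E ∧ orderOf a = 2} : Set G) := by
        rw [← Nat.card_eq_fintype_card, Nat.card_coe_set_eq, ← Set.ncard_coe_finset]
        congr 1
        ext b
        simp only [Finset.coe_filter, Finset.mem_univ, true_and, Set.mem_setOf_eq]
        exact ⟨fun h => ⟨invE b h.2 h.1, h.1⟩, fun h => ⟨h.2, hEH h.1⟩⟩
      omega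
    have hcardQ : Nat.card {c : G ⧸ H // c ≠ ((1 : G) : G ⧸ H)} = H.index - 1 := by
      letI := Fintype.ofFinite (G ⧸ H)
      rw [Nat.card_eq_fintype_card, Fintype.card_subtype_compl, Fintype.card_subtype_eq,
        ← Nat.card_eq_fintype_card, index_eq_card]
    let F : {u : G // orderOf u = 2 ∧ u ∉ H} → {c : G ⧸ H // c ≠ ((1 : G) : G ⧸ H)} :=
      fun u => ⟨((u.1 : G) : G ⧸ H), fun e => u.2.2 (by
        have := H.inv_mem (QuotientGroup.eq.1 e)
        simpa using this)⟩
    by_contra hcon
    have hinj : Function.Injective F := by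
      intro u u' e
      by_contra hne
      exact hcon ⟨u, u', hne, congrArg Subtype.val e⟩
    have := Nat.card_le_card_of_injective F hinj
    rw [hcardT, hcardQ, hnj] at this
    have h2 : 2 * (H.index - 1) ≤ j * (H.index - 1) := Nat.mul_le_mul_right _ (by omega)
    omega
  have hH' : u.1 * u'.1 ∈ H := by
    have := QuotientGroup.eq.1 huu
    rwa [inv_eq u.2.1] at this
  have hnc : ¬ Commute u.1 u'.1 := by
    intro hc
    have h1 : orderOf (u.1 * u'.1) = 2 := by
      refine orderOf_eq_two ?_ fun e => hne (Subtype.ext ?_)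
      · rw [← pow_two, hc.mul_pow, pow_two, pow_two, mul_self u.2.1, mul_self u'.2.1, one_mul]
      · rw [mul_eq_one_iff_eq_inv, inv_eq u'.2.1] at e
        exact e
    refine u.2.2 (hC _ (invE _ hH' h1) h1 (mem_centralizer_singleton_iff.2 ?_))
    exact ((Commute.refl u.1).mul_right hc).eq
  have h5 : r ∣ Nat.card H := hpairr _ _ u.2.1 u'.2.1 hnc ▸ H.orderOf_dvd_natCard hH'
  rw [hHcard] at h5
  rcases M.hr.dvd_mul.1 h5 with h6 | h6
  · exact hrn (hnj ▸ h6.mul_right _)
  · exact M.r_not_dvd_centralizer ht h6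

end Mixed

end CfsgLib.Recognition.FiveOrbits
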