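import Cfsg.Agent.Lib.Recognition.FiveOrbits.Mixed.Signal
import Cfsg.Agent.Lib.Recognition.FiveOrbits.Mixed.Normalized
import Cfsg.Agent.Lib.Involution.KleinSylow

/-!
# The mixed case with Klein four Sylow 2-subgroups: local structure
-/

set_option autoImplicit false
set_option linter.unusedSectionVars false

open Subgroup
open scoped Pointwise

namespace CfsgLib.Recognition.FiveOrbits

open CfsgLib.Involution.Dihedral CfsgLib.Involution.Basic

variable {G : Type*} [Group G] [Finite G]

/-- The mixed case with Sylow 2-subgroups of order four and non-trivial cores. -/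
structure Klein (G : Type*) [Group G] [Finite G] (q r : ℕ) : Prop where
  M : Mixed G q r
  card4 : ∀ P : Sylow 2 G, Nat.card (P : Subgroup G) = 4
  conj : ∀ t u : G, orderOf t = 2 → orderOf u = 2 → IsConj t u
  core_ne : ∀ t : G, orderOf t = 2 → core q t ≠ ⊥

/-- Two distinct involutions of a Sylow 2-subgroup. -/
structure Frame (P : Sylow 2 G) (t s : G) : Prop where
  ht : t ∈ P
  hs : s ∈ P
  ot : orderOf t = 2
  os : orderOf s = 2
  ne : t ≠ s

theorem isKleinFour_of {q r : ℕ} (M : Mixed G q r) {P : Sylow 2 G}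
    (h : Nat.card (P : Subgroup G) = 4) : IsKleinFour (P : Subgroup G) := by
  refine ⟨h, ?_⟩
  haveI : Fintype (P : Subgroup G) := Fintype.ofFinite _
  have h1 : Monoid.exponent (P : Subgroup G) ∣ 2 := Monoid.exponent_dvd_of_forall_pow_eq_one fun x =>
    Subtype.ext (by rw [pow_two]; exact M.sq_of_isPGroup P.isPGroup' x.2)
  rcases (Nat.dvd_prime Nat.prime_two).1 h1 with h2 | h2
  · haveI : Subsingleton (P : Subgroup G) := Monoid.exp_eq_one_iff.1 h2
    rw [Nat.card_unique] at h
    omega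
  · exact h2

/-- All involutions are conjugate when the Sylow 2-subgroups have order four. -/
theorem Mixed.conj_of_card_four {q r : ℕ} (M : Mixed G q r) (P : Sylow 2 G)
    (h : Nat.card (P : Subgroup G) = 4) (t u : G) (ht : orderOf t = 2) (hu : orderOf u = 2) :
    IsConj t u := by
  haveI : Fact (Nat.Prime 2) := ⟨Nat.prime_two⟩
  haveI := M.simple
  have hP := isKleinFour_of M h
  by_cases hf : ∀ x ∈ P, ∀ y ∈ P, IsConj x y → x = y
  · exfalso
    have hc := MonoidHom.ker_transferSylow_isComplement' P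
      (CfsgLib.Involution.KleinSylow.centralizes_of_unfused P hP hf)
    rcases Subgroup.Normal.eq_bot_or_eq_top (MonoidHom.normal_ker (MonoidHom.transferSylow P
      (CfsgLib.Involution.KleinSylow.centralizes_of_unfused P hP hf))) with e | e
    · rw [e] at hc
      exact M.not_isPGroup_top (isComplement'_bot_left.1 hc ▸ P.isPGroup')
    · rw [e] at hc
      exact M.sylow_ne_bot P (isComplement'_top_left.1 hc)
  · push Not at hf
    obtain ⟨a, ha, b, hb, hc, hab⟩ := hf
    have ha1 : a ≠ 1 := fun e => hab (by subst e; exact ((isConj_one_right).1 hc).symm)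
    have hall := CfsgLib.Involution.KleinSylow.all_conj P hP ha hb ha1 hab hc
    obtain ⟨g, hg⟩ := exists_conj_mem P ht
    obtain ⟨k, hk⟩ := exists_conj_mem P hu
    exact ((isConj_iff.2 ⟨g, rfl⟩).trans (hall _ hg fun e => ne_one ht (conj_eq_one_iff.1 e)).symm).trans
      ((hall _ hk fun e => ne_one hu (conj_eq_one_iff.1 e)).trans (isConj_iff.2 ⟨k, rfl⟩).symm)

namespace Frame

variable {P : Sylow 2 G} {t s : G}

theorem symm (F : Frame P t s) : Frame P s t := ⟨F.hs, F.ht, F.os, F.ot, F.ne.symm⟩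

theorem comm {q r : ℕ} (M : Mixed G q r) (F : Frame P t s) : Commute t s :=
  M.sylow_comm P t F.ht s F.hs

theorem third {q r : ℕ} (M : Mixed G q r) (F : Frame P t s) : Frame P t (t * s) := by
  refine ⟨F.ht, mul_mem F.ht F.hs, F.ot, M.orderOf_eq_two_of_mem (mul_mem F.ht F.hs) fun e => ?_,
    fun e => ne_one F.os (mul_eq_left.1 e.symm)⟩
  rw [mul_eq_one_iff_eq_inv, inv_eq F.os] at e
  exact F.ne e

end Frame

namespace Klein

variable {q r : ℕ} (K : Klein G q r)
include K

theorem exists_frame {t : G} (ht : orderOf t = 2) : ∃ (P : Sylow 2 G) (s : G), Frame P t s := by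
  haveI : Fact (Nat.Prime 2) := ⟨Nat.prime_two⟩
  obtain ⟨P, hP⟩ := (isPGroup_zpowers_of_two ht).exists_le_sylow
  obtain ⟨a, b, ha, hb, ha1, hb1, hab⟩ :=
    CfsgLib.Involution.KleinSylow.exists_pair P (isKleinFour_of K.M (K.card4 P))
  have htP := hP (mem_zpowers t)
  by_cases e : t = a
  · exact ⟨P, b, htP, hb, ht, K.M.orderOf_eq_two_of_mem hb hb1, e ▸ hab⟩
  · exact ⟨P, a, htP, ha, ht, K.M.orderOf_eq_two_of_mem ha ha1, e⟩

theorem exists_frame_pair {t s : G} (ht : orderOf t = 2) (hs : orderOf s = 2) (hne : t ≠ s)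
    (h : Commute t s) : ∃ P : Sylow 2 G, Frame P t s := by
  obtain ⟨P, hP⟩ := (isPGroup_of_commute ht hs h).exists_le_sylow
  exact ⟨P, hP (mem_sup_left (mem_zpowers t)), hP (mem_sup_right (mem_zpowers s)), ht, hs, hne⟩

variable {P : Sylow 2 G} {t s : G}

theorem mem_cases (F : Frame P t s) {x : G} (hx : x ∈ P) : x = 1 ∨ x = t ∨ x = s ∨ x = t * s := by
  by_cases h1 : x = 1
  · exact Or.inl h1
  · exact Or.inr (CfsgLib.Involution.KleinSylow.exists_cover P (isKleinFour_of K.M (K.card4 P))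
      F.ht F.hs (ne_one F.ot) (ne_one F.os) F.ne hx h1)

theorem mem_of_commute (F : Frame P t s) {x : G} (h1 : Commute x t) (h2 : Commute x s) : x ∈ P := by
  have : x ∈ centralizer ((P : Subgroup G) : Set G) := by
    rw [mem_centralizer_iff]
    intro y hy
    rcases K.mem_cases F hy with rfl | rfl | rfl | rfl
    · rw [one_mul, mul_one]
    · exact h1.symm.eq
    · exact h2.symm.eq
    · exact (h1.mul_right h2).symm.eq
  rwa [K.M.centralizer_sylow P] at this

theorem core_commute {t x : G} (hx : x ∈ core q t) : Commute x t :=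
  mem_centralizer_singleton_iff.1 (core_le q t hx)

theorem eq_one_of_core_of_sq {t x : G} (hx : x ∈ core q t) (h : x * x = 1) : x = 1 := by
  by_contra hne
  have h1 := (core q t).orderOf_dvd_natCard hx
  rw [orderOf_eq_two h hne] at h1
  exact K.M.two_not_dvd_core t h1

theorem eq_one_of_core_of_mem (F : Frame P t s) {x : G} (hx : x ∈ core q t) (hP : x ∈ P) : x = 1 :=
  K.eq_one_of_core_of_sq hx (K.M.sq_of_isPGroup P.isPGroup' hP)

theorem orderOf_core {t y : G} (hy : y ∈ core q t) (hy1 : y ≠ 1) (ht : orderOf t = 2) :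
    orderOf y = q := by
  haveI : Fact q.Prime := ⟨K.M.hq⟩
  obtain ⟨k, hk⟩ := IsPGroup.iff_orderOf.1 (isPGroup_core q t) ⟨y, hy⟩
  rw [Subgroup.orderOf_mk] at hk
  rcases K.M.ord_odd (hk ▸ K.M.odd_q.pow) with h | h | h
  · exact absurd (orderOf_eq_one_iff.1 h) hy1
  · exact h
  · exact absurd h (K.M.ord_commute_two ht (K.core_commute hy))

/-- `C(t) = O_q(C(t)) P`. -/
theorem decomp (F : Frame P t s) {x : G} (hx : Commute x t) :
    ∃ w ∈ core q t, ∃ e ∈ P, x = w * e := by
  haveI : Fact (Nat.Prime 2) := ⟨Nat.prime_two⟩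
  obtain ⟨w, hw, n, hnt, hn, rfl⟩ := K.M.decomp P F.ht F.ot (mem_centralizer_singleton_iff.2 hx)
  refine ⟨w, hw, n, ?_, rfl⟩
  have hnt' : Commute n t := mem_centralizer_singleton_iff.1 hnt
  have hns : n * s * n⁻¹ ∈ P := (mem_normalizer_iff.1 hn s).1 F.hs
  have h2 : Commute (n * n) s := by
    show n * n * s = s * (n * n)
    rw [← mul_inv_eq_iff_eq_mul, show n * n * s * (n * n)⁻¹ = n * (n * s * n⁻¹) * n⁻¹ by group]
    rcases K.mem_cases F hns with e | e | e | e
    · exact absurd (conj_eq_one_iff.1 e) (ne_one F.os)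
    · exfalso
      rw [mul_inv_eq_iff_eq_mul] at e
      exact F.ne (mul_left_cancel (e.trans hnt'.symm.eq)).symm
    · rw [e, e]
    · rw [e, ← conj_mul, e, hnt'.eq, mul_inv_cancel_right, ← mul_assoc, mul_self F.ot, one_mul]
  have h3 := K.M.sq_of_isPGroup P.isPGroup' (K.mem_of_commute F (hnt'.mul_left hnt') h2)
  have h4 : orderOf n ∣ 2 ^ 2 := orderOf_dvd_of_pow_eq_one (by
    rw [show (2 : ℕ) ^ 2 = 2 * 2 by rfl, pow_mul, pow_two, pow_two]; exact h3)
  obtain ⟨k, -, hk⟩ := (Nat.dvd_prime_pow Nat.prime_two).1 h4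
  exact CfsgLib.Involution.KleinSylow.mem_of_normalizes P hk hn

theorem decomp_unique (F : Frame P t s) {w w' e e' : G} (hw : w ∈ core q t) (hw' : w' ∈ core q t)
    (he : e ∈ P) (he' : e' ∈ P) (h : w * e = w' * e') : w = w' ∧ e = e' := by
  have h1 : w'⁻¹ * w = e' * e⁻¹ := by
    calc w'⁻¹ * w = w'⁻¹ * (w * e) * e⁻¹ := by group
      _ = w'⁻¹ * (w' * e') * e⁻¹ := by rw [h]
      _ = e' * e⁻¹ := by group
  have h2 := K.eq_one_of_core_of_mem F ((core q t).mul_mem ((core q t).inv_mem hw') hw)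
    (h1 ▸ mul_mem he' (inv_mem he))
  have h3 : w = w' := (inv_mul_eq_one.1 h2).symm
  subst h3
  exact ⟨rfl, mul_left_cancel h⟩

/-- The involution `s` inverts `O_q(C(t))`. -/
theorem core_inv (F : Frame P t s) {x : G} (hx : x ∈ core q t) : s * x * s⁻¹ = x⁻¹ := by
  have hmem : ∀ y ∈ core q t, s * y * s⁻¹ ∈ core q t := fun y hy =>
    (mem_normalizer_iff.1 (centralizer_le_normalizer_core q t
      (mem_centralizer_singleton_iff.2 (F.comm K.M).symm)) y).1 hy
  let f : core q t → core q t := fun y =>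
    ⟨(y : G)⁻¹ * (s * y * s⁻¹), mul_mem (inv_mem y.2) (hmem y y.2)⟩
  have hinj : Function.Injective f := by
    intro a b hab
    have e : (a : G)⁻¹ * (s * a * s⁻¹) = (b : G)⁻¹ * (s * b * s⁻¹) := congrArg Subtype.val hab
    have hfix : Commute ((b : G) * (a : G)⁻¹) s := by
      show (b : G) * (a : G)⁻¹ * s = s * (b * (a : G)⁻¹)
      rw [eq_comm, ← mul_inv_eq_iff_eq_mul]
      calc s * ((b : G) * (a : G)⁻¹) * s⁻¹ = (s * b * s⁻¹) * (s * a * s⁻¹)⁻¹ := by group
        _ = (b : G) * ((b : G)⁻¹ * (s * b * s⁻¹)) * ((a : G) * ((a : G)⁻¹ * (s * a * s⁻¹)))⁻¹ := by group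
        _ = (b : G) * (a : G)⁻¹ := by rw [e]; group
    have h1 := K.mem_of_commute F ((K.core_commute b.2).mul_left (K.core_commute a.2).inv_left) hfix
    exact Subtype.ext (mul_inv_eq_one.1 (K.eq_one_of_core_of_mem F (mul_mem b.2 (inv_mem a.2)) h1)).symm
  obtain ⟨y, hy⟩ := (Finite.injective_iff_surjective.1 hinj) ⟨x, hx⟩
  have e : (y : G)⁻¹ * (s * y * s⁻¹) = x := congrArg Subtype.val hy
  rw [← e, inv_eq F.os]
  calc s * ((y : G)⁻¹ * (s * y * s)) * s = (s * (y : G)⁻¹ * s) * y * (s * s) := by group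
    _ = ((y : G)⁻¹ * (s * y * s))⁻¹ := by
      rw [mul_self F.os, mul_one, mul_inv_rev, mul_inv_rev, mul_inv_rev, inv_inv, inv_eq F.os]
      group

theorem core_comm (F : Frame P t s) {x y : G} (hx : x ∈ core q t) (hy : y ∈ core q t) :
    Commute x y := by
  have h1 := K.core_inv F hx
  have h2 := K.core_inv F hy
  have h3 := K.core_inv F (mul_mem hx hy)
  rw [← conj_mul, h1, h2, ← mul_inv_rev] at h3
  exact (inv_inj.1 h3).symm

theorem mem_core (F : Frame P t s) {y : G} (hy : orderOf y = q) (h : Commute y t) :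
    y ∈ core q t := by
  obtain ⟨w, hw, e, he, rfl⟩ := K.decomp F h
  exact K.M.mem_core_of_mem_sup P F.ht (k := 1) (by rw [pow_one]; exact hy)
    (mul_mem (mem_sup_left hw) (mem_sup_right he))

theorem card_core {t u : G} (ht : orderOf t = 2) (hu : orderOf u = 2) :
    Nat.card (core q u) = Nat.card (core q t) := by
  obtain ⟨g, hg⟩ := isConj_iff.1 (K.conj t u ht hu)
  rw [← hg, ← MulAut.conj_apply, ← core_map]
  exact (Nat.card_congr ((core q t).equivMapOfInjective _ (MulAut.conj g).injective).toEquiv).symm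

theorem card_centralizer (F : Frame P t s) :
    Nat.card (centralizer ({t} : Set G)) = 4 * Nat.card (core q t) := by
  rw [← K.card4 P, mul_comm, ← Nat.card_prod]
  symm
  refine Nat.card_eq_of_bijective (fun p : core q t × (P : Subgroup G) =>
    (⟨(p.1 : G) * p.2, mul_mem (core_le q t p.1.2) (K.M.sylow_le_centralizer P F.ht p.2.2)⟩ :
      centralizer ({t} : Set G))) ⟨?_, ?_⟩
  · intro a b h
    obtain ⟨e1, e2⟩ := K.decomp_unique F a.1.2 b.1.2 a.2.2 b.2.2 (congrArg Subtype.val h)
    exact Prod.ext (Subtype.ext e1) (Subtype.ext e2)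
  · rintro ⟨x, hx⟩
    obtain ⟨w, hw, e, he, rfl⟩ := K.decomp F (mem_centralizer_singleton_iff.1 hx)
    exact ⟨(⟨w, hw⟩, ⟨e, he⟩), rfl⟩

/-- Involutions of `C(t)` other than `t`. -/
theorem involution_cases (F : Frame P t s) {g : G} (hg : orderOf g = 2) (h : Commute g t) :
    g = t ∨ ∃ w ∈ core q t, g = w * s ∨ g = w * (t * s) := by
  obtain ⟨w, hw, e, he, rfl⟩ := K.decomp F h
  rcases K.mem_cases F he with he' | he' | he' | he'
  · exfalso
    rw [he', mul_one] at hg
    exact ne_one hg (K.eq_one_of_core_of_sq hw (mul_self hg))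
  · left
    rw [he'] at hg ⊢
    have h1 := mul_self hg
    rw [(K.core_commute hw).symm.mul_mul_mul_comm w t, mul_self F.ot, mul_one] at h1
    rw [K.eq_one_of_core_of_sq hw h1, one_mul]
  · exact Or.inr ⟨w, hw, Or.inl (by rw [he'])⟩
  · exact Or.inr ⟨w, hw, Or.inr (by rw [he'])⟩

theorem orderOf_core_mul (F : Frame P t s) {w : G} (hw : w ∈ core q t) : orderOf (w * s) = 2 := by
  refine orderOf_eq_two ?_ fun e => ?_
  · have h1 := K.core_inv F hw
    rw [inv_eq F.os] at h1
    calc w * s * (w * s) = w * (s * w * s) := by group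
      _ = 1 := by rw [h1, mul_inv_cancel]
  · rw [mul_eq_one_iff_eq_inv, inv_eq F.os] at e
    exact ne_one F.os ((e ▸ K.eq_one_of_core_of_mem F hw (e ▸ F.hs)))

/-- The two cosets `W s` and `W t s`. -/
def frameInv (q : ℕ) (t s : G) : core q t ⊕ core q t → G :=
  Sum.elim (fun w => (w : G) * s) (fun w => (w : G) * (t * s))

theorem frameInv_injective (F : Frame P t s) : Function.Injective (frameInv q t s) := by
  rintro (a | a) (b | b) h <;> simp only [frameInv, Sum.elim_inl, Sum.elim_inr] at h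
  · exact congrArg Sum.inl (Subtype.ext (K.decomp_unique F a.2 b.2 F.hs F.hs h).1)
  · exact absurd (K.decomp_unique F a.2 b.2 F.hs (F.third K.M).hs h).2
      fun e => ne_one F.ot (mul_eq_right.1 e.symm)
  · exact absurd (K.decomp_unique F a.2 b.2 (F.third K.M).hs F.hs h).2
      fun e => ne_one F.ot (mul_eq_right.1 e)
  · exact congrArg Sum.inr (Subtype.ext (K.decomp_unique F a.2 b.2 (F.third K.M).hs (F.third K.M).hs h).1)

theorem frameInv_spec (F : Frame P t s) (z : core q t ⊕ core q t) :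
    orderOf (frameInv q t s z) = 2 ∧ Commute (frameInv q t s z) t ∧
      ∀ y ∈ core q t, frameInv q t s z * y * (frameInv q t s z)⁻¹ = y⁻¹ := by
  have key : ∀ s', Frame P t s' → ∀ w ∈ core q t, orderOf (w * s') = 2 ∧ Commute (w * s') t ∧
      ∀ y ∈ core q t, w * s' * y * (w * s')⁻¹ = y⁻¹ := by
    intro s' F' w hw
    refine ⟨K.orderOf_core_mul F' hw, (K.core_commute hw).mul_left (F'.comm K.M).symm,
      fun y hy => ?_⟩
    rw [show w * s' * y * (w * s')⁻¹ = w * (s' * y * s'⁻¹) * w⁻¹ by group, K.core_inv F' hy,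
      (K.core_comm F hw (inv_mem hy)).eq, mul_inv_cancel_right]
  rcases z with w | w
  · exact key s F w w.2
  · exact key (t * s) (F.third K.M) w w.2

/-- The involutions of `C(t)` inverting `y`. -/
theorem card_inverting_in_centralizer (F : Frame P t s) {y : G} (hy : y ∈ core q t) (hy1 : y ≠ 1) :
    Nat.card {g : G // (orderOf g = 2 ∧ g * y * g⁻¹ = y⁻¹) ∧ Commute g t} =
      2 * Nat.card (core q t) := by
  rw [two_mul, ← Nat.card_sum]
  symm
  refine Nat.card_eq_of_bijective (fun z => (⟨frameInv q t s z,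
    ⟨(K.frameInv_spec F z).1, (K.frameInv_spec F z).2.2 y hy⟩, (K.frameInv_spec F z).2.1⟩ :
      {g : G // (orderOf g = 2 ∧ g * y * g⁻¹ = y⁻¹) ∧ Commute g t})) ⟨?_, ?_⟩
  · exact fun a b h => K.frameInv_injective F (congrArg Subtype.val h)
  · rintro ⟨g, ⟨hg, hgy⟩, hgt⟩
    rcases K.involution_cases F hg hgt with e | ⟨w, hw, e | e⟩
    · exfalso
      subst e
      rw [← (K.core_commute hy).eq, mul_inv_cancel_right] at hgy
      refine hy1 (K.eq_one_of_core_of_sq hy ?_)
      nth_rewrite 1 [hgy]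
      exact inv_mul_cancel y
    · exact ⟨Sum.inl ⟨w, hw⟩, Subtype.ext e.symm⟩
    · exact ⟨Sum.inr ⟨w, hw⟩, Subtype.ext e.symm⟩

/-- The involutions commuting with `t`. -/
theorem card_commuting (F : Frame P t s) :
    Nat.card {g : G // orderOf g = 2 ∧ Commute g t} = 1 + 2 * Nat.card (core q t) := by
  rw [two_mul, ← Nat.card_sum, show (1 : ℕ) = Nat.card Unit by simp, ← Nat.card_sum]
  symm
  refine Nat.card_eq_of_bijective (fun z : Unit ⊕ (core q t ⊕ core q t) =>
    (z.elim (fun _ => ⟨t, F.ot, Commute.refl t⟩)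
      (fun u => ⟨frameInv q t s u, (K.frameInv_spec F u).1, (K.frameInv_spec F u).2.1⟩) :
      {g : G // orderOf g = 2 ∧ Commute g t})) ⟨?_, ?_⟩
  · have hne : ∀ u, frameInv q t s u ≠ t := by
      intro u e
      rcases u with w | w <;> simp only [frameInv, Sum.elim_inl, Sum.elim_inr] at e
      · exact F.ne (K.decomp_unique F w.2 (one_mem _) F.hs F.ht (e.trans (one_mul t).symm)).2.symm
      · exact (F.third K.M).ne
          (K.decomp_unique F w.2 (one_mem _) (F.third K.M).hs F.ht (e.trans (one_mul t).symm)).2.symm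
    rintro (a | a) (b | b) h
    · rfl
    · exact absurd (congrArg Subtype.val h).symm (hne b)
    · exact absurd (congrArg Subtype.val h) (hne a)
    · exact congrArg Sum.inr (K.frameInv_injective F (congrArg Subtype.val h))
  · rintro ⟨g, hg, hgt⟩
    rcases K.involution_cases F hg hgt with e | ⟨w, hw, e | e⟩
    · exact ⟨Sum.inl (), Subtype.ext e.symm⟩
    · exact ⟨Sum.inr (Sum.inl ⟨w, hw⟩), Subtype.ext e.symm⟩
    · exact ⟨Sum.inr (Sum.inr ⟨w, hw⟩), Subtype.ext e.symm⟩

/-- `C(y) ∩ C(u)` for `y` in the core at `t` and `u ∈ {t, s}`. -/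
theorem card_inf_centralizer (F : Frame P t s) {y u : G} (hy : y ∈ core q t) (hy1 : y ≠ 1)
    (hu : u = t ∨ u = s) :
    Nat.card ↥(centralizer ({y} : Set G) ⊓ centralizer ({u} : Set G)) =
      2 * Nat.card ↥(core q u ⊓ centralizer ({y} : Set G)) := by
  classical
  obtain ⟨v, F'⟩ : ∃ v, Frame P u v := by
    rcases hu with rfl | rfl
    · exact ⟨s, F⟩
    · exact ⟨t, F.symm⟩
  have hy2 : ¬ y * y = 1 := fun h => hy1 (K.eq_one_of_core_of_sq hy h)
  have hey : ∀ e ∈ P, (e = 1 ∨ e = t) ∨ e * y * e⁻¹ = y⁻¹ := by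
    intro e he
    rcases K.mem_cases F he with h | h | h | h
    · exact Or.inl (Or.inl h)
    · exact Or.inl (Or.inr h)
    · exact Or.inr (h ▸ K.core_inv F hy)
    · exact Or.inr (h ▸ K.core_inv (F.third K.M) hy)
  have hty : Commute t y := (K.core_commute hy).symm
  rw [show (2 : ℕ) = Nat.card Bool by simp, ← Nat.card_prod]
  symm
  let f : Bool × ↥(core q u ⊓ centralizer ({y} : Set G)) →
      ↥(centralizer ({y} : Set G) ⊓ centralizer ({u} : Set G)) := fun p =>
    ⟨(p.2 : G) * (if p.1 then t else 1), by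
      refine mul_mem ⟨p.2.2.2, core_le q u p.2.2.1⟩ ?_
      split_ifs
      · exact ⟨mem_centralizer_singleton_iff.2 hty, K.M.sylow_le_centralizer P F'.ht F.ht⟩
      · exact one_mem _⟩
  refine Nat.card_eq_of_bijective f ⟨?_, ?_⟩
  · rintro ⟨b, a⟩ ⟨b', a'⟩ h
    have hm : ∀ b : Bool, (if b then t else 1) ∈ P := fun b => by
      split_ifs
      · exact F.ht
      · exact (P : Subgroup G).one_mem
    obtain ⟨e1, e2⟩ := K.decomp_unique F' a.2.1 a'.2.1 (hm b) (hm b') (congrArg Subtype.val h)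
    have hb : b = b' := by
      cases b <;> cases b' <;> simp_all [ne_one F.ot, (ne_one F.ot).symm]
    exact Prod.ext hb (Subtype.ext e1)
  · rintro ⟨x, hxy, hxu⟩
    obtain ⟨w, hw, e, he, rfl⟩ := K.decomp F' (mem_centralizer_singleton_iff.1 hxu)
    have hxy' : Commute (w * e) y := mem_centralizer_singleton_iff.1 hxy
    rcases hey e he with h | h
    · have hwy : Commute w y := by
        rcases h with rfl | rfl
        · rwa [mul_one] at hxy'
        · have := hxy'.mul_left hty
          rwa [mul_assoc, mul_self F.ot, mul_one] at this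
      rcases h with rfl | rfl
      · exact ⟨(false, ⟨w, hw, mem_centralizer_singleton_iff.2 hwy⟩), Subtype.ext (by simp [f])⟩
      · exact ⟨(true, ⟨w, hw, mem_centralizer_singleton_iff.2 hwy⟩), Subtype.ext (by simp [f])⟩
    · exfalso
      have hwinv : w * y * w⁻¹ = y⁻¹ := by
        have e1 : w * (e * y * e⁻¹) * w⁻¹ = y := by
          rw [show w * (e * y * e⁻¹) * w⁻¹ = w * e * y * (w * e)⁻¹ by group, hxy'.eq,
            mul_inv_cancel_right]
        rw [h, ← conj_inv, inv_eq_iff_eq_inv] at e1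
        exact e1
      have hodd : Odd (orderOf w) := Nat.odd_iff.2 (Nat.two_dvd_ne_zero.1 fun hd =>
        K.M.two_not_dvd_core u (hd.trans ((core q u).orderOf_dvd_natCard hw)))
      have h1 := pow_inverts hwinv hodd
      rw [pow_orderOf_eq_one, one_mul, inv_one, mul_one] at h1
      exact hy2 (by nth_rewrite 2 [h1]; exact mul_inv_cancel y)

/-- No two of the cores in a frame commute elementwise. -/
theorem no_edge (F : Frame P t s) : ¬ (core q s ≤ centralizer (core q t : Set G)) := by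
  classical
  haveI : Fact (Nat.Prime 2) := ⟨Nat.prime_two⟩
  intro hedge
  -- an element of the normaliser permuting the three involutions cyclically
  obtain ⟨n, hn, hnt⟩ := CfsgLib.Fusion.Transfer.burnside_central P
    (fun y hy => K.M.sylow_comm P y hy t F.ht) (fun y hy => K.M.sylow_comm P y hy s F.hs)
    (isConj_iff.1 (K.conj t s F.ot F.os))
  have hn' : n ∈ normalizer ((P : Subgroup G) : Set G) := hn
  have hns : n * s * n⁻¹ = t * s := by
    have hm := (mem_normalizer_iff.1 hn' s).1 F.hs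
    rcases K.mem_cases F hm with e | e | e | e
    · exact absurd (conj_eq_one_iff.1 e) (ne_one F.os)
    · exfalso
      have h2 : Commute (n * n) t := by
        show n * n * t = t * (n * n)
        rw [← mul_inv_eq_iff_eq_mul, show n * n * t * (n * n)⁻¹ = n * (n * t * n⁻¹) * n⁻¹ by group,
          hnt, e]
      have h3 : Commute (n * n) s := by
        show n * n * s = s * (n * n)
        rw [← mul_inv_eq_iff_eq_mul, show n * n * s * (n * n)⁻¹ = n * (n * s * n⁻¹) * n⁻¹ by group,
          e, hnt]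
      have h4 := K.M.sq_of_isPGroup P.isPGroup' (K.mem_of_commute F h2 h3)
      have h5 : orderOf n ∣ 2 ^ 2 := orderOf_dvd_of_pow_eq_one (by
        rw [show (2 : ℕ) ^ 2 = 2 * 2 by rfl, pow_mul, pow_two, pow_two]; exact h4)
      obtain ⟨k, -, hk⟩ := (Nat.dvd_prime_pow Nat.prime_two).1 h5
      have h6 := K.M.sylow_comm P n (CfsgLib.Involution.KleinSylow.mem_of_normalizes P hk hn') t F.ht
      rw [h6, mul_inv_cancel_right] at hnt
      exact F.ne hnt
    · exact absurd (e.trans hnt.symm) fun h => F.ne (mul_left_cancel (mul_right_cancel h)).symm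
    · exact e
  have hnts : n * (t * s) * n⁻¹ = t := by
    rw [← conj_mul, hnt, hns, ← mul_assoc, ← (F.comm K.M).eq, mul_assoc, mul_self F.os, mul_one]
  have step : ∀ a b : G, core q b ≤ centralizer (core q a : Set G) →
      core q (n * b * n⁻¹) ≤ centralizer (core q (n * a * n⁻¹) : Set G) := by
    intro a b h x hx
    rw [mem_centralizer_iff]
    intro z hz
    have h1 : n⁻¹ * x * n ∈ core q b := by
      have := core_conj (g := n⁻¹) hx
      simpa [mul_assoc] using this
    have h2 : n⁻¹ * z * n ∈ core q a := by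
      have := core_conj (g := n⁻¹) hz
      simpa [mul_assoc] using this
    have := mem_centralizer_iff.1 (h h1) _ h2
    calc z * x = n * (n⁻¹ * z * n * (n⁻¹ * x * n)) * n⁻¹ := by group
      _ = n * (n⁻¹ * x * n * (n⁻¹ * z * n)) * n⁻¹ := by rw [this]
      _ = x * z := by group
  have h2 := step _ _ hedge
  rw [hns, hnt] at h2
  have h3 := step _ _ h2
  rw [hnts, hns] at h3
  haveI : Fact q.Prime := ⟨K.M.hq⟩
  have hp : IsPGroup q ↥(core q t ⊔ core q s ⊔ core q (t * s)) := by
    refine IsPGroup.to_sup_of_normal_left' (IsPGroup.to_sup_of_normal_left' (isPGroup_core q t)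
      (isPGroup_core q s) (hedge.trans (centralizer_le_normalizer _))) (isPGroup_core q (t * s)) ?_
    refine le_trans (le_inf ?_ (h2.trans (centralizer_le_normalizer _))) ?_ (b := normalizer (core q t : Set G) ⊓ normalizer (core q s : Set G))
    · refine le_trans ?_ (centralizer_le_normalizer _)
      intro x hx
      rw [mem_centralizer_iff]
      intro z hz
      exact (mem_centralizer_iff.1 (h3 hz) x hx).symm
    · exact Subgroup.normalizer_inf_normalizer_le_normalizer_sup _ _
  refine K.M.absurd_of_odd_iSup P F.ht F.ot (K.core_ne t F.ot) ?_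
  have hle : (⨆ a : {a : G // a ∈ (P : Subgroup G) ∧ a ≠ 1}, core q a.1) ≤
      core q t ⊔ core q s ⊔ core q (t * s) := by
    refine iSup_le fun a => ?_
    rcases K.mem_cases F a.2.1 with e | e | e | e
    · exact absurd e a.2.2
    · rw [e]; exact le_sup_left.trans le_sup_left
    · rw [e]; exact le_sup_right.trans le_sup_left
    · rw [e]; exact le_sup_right
  intro hd
  obtain ⟨k, hk⟩ := IsPGroup.iff_card.1 hp
  have h4 := hd.trans (card_dvd_of_le hle)
  rw [hk] at h4
  exact K.M.q2 ((Nat.prime_dvd_prime_iff_eq Nat.prime_two K.M.hq).1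
    (Nat.prime_two.dvd_of_dvd_pow h4)).symm

end Klein

end CfsgLib.Recognition.FiveOrbits
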