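import Cfsg.Agent.Lib.Recognition.FiveOrbits.Mixed.KleinCount

/-!
# The mixed case does not occur
-/

set_option autoImplicit false
set_option linter.unusedSectionVars false

open Subgroup

namespace CfsgLib.Recognition.FiveOrbits

open CfsgLib.Involution.Dihedral CfsgLib.Involution.Basic

variable {G : Type*} [Group G] [Finite G] {q r : ℕ}

theorem Mixed.elim (M : Mixed G q r) : False := by
  haveI : Fact (Nat.Prime 2) := ⟨Nat.prime_two⟩
  haveI := M.simple
  obtain ⟨E⟩ : Nonempty (Sylow 2 G) := inferInstance
  -- `|E| ≥ 4`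
  obtain ⟨v, hv⟩ := IsPGroup.iff_card.1 E.isPGroup'
  have hv2 : 2 ≤ v := by
    by_contra hcon
    haveI : IsCyclic (E : Subgroup G) := by
      obtain rfl | rfl : v = 0 ∨ v = 1 := by omega
      · haveI : Subsingleton (E : Subgroup G) := (Nat.card_eq_one_iff_unique.1 (by simpa using hv)).1
        infer_instance
      · exact isCyclic_of_prime_card (by simpa using hv)
    have hmin : (Nat.card G).minFac = 2 := (Nat.minFac_eq_two_iff _).2 M.two_dvd
    have hc := MonoidHom.ker_transferSylow_isComplement' E (IsCyclic.normalizer_le_centralizer hmin inferInstance)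
    rcases Subgroup.Normal.eq_bot_or_eq_top (MonoidHom.normal_ker (MonoidHom.transferSylow E
      (IsCyclic.normalizer_le_centralizer hmin inferInstance))) with e | e
    · rw [e] at hc
      exact M.not_isPGroup_top (isComplement'_bot_left.1 hc ▸ E.isPGroup')
    · rw [e] at hc
      exact M.sylow_ne_bot E (isComplement'_top_left.1 hc)
  have h4 : 4 ≤ Nat.card (E : Subgroup G) := by
    rw [hv]; exact (Nat.pow_le_pow_right two_pos hv2 : 2 ^ 2 ≤ 2 ^ v)
  by_cases hz : ∀ t : G, orderOf t = 2 → core q t = ⊥
  · refine M.absurd_of_centralizers_le E h4 fun t htE ht x hx => ?_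
    obtain ⟨w, hw, n, -, hn, rfl⟩ := M.decomp E htE ht hx
    rw [hz t ht, mem_bot] at hw
    rw [hw, one_mul]
    exact hn
  · push Not at hz
    obtain ⟨t0, ht0, hne0⟩ := hz
    have hne : ∀ t : G, orderOf t = 2 → core q t ≠ ⊥ := by
      intro t ht e
      obtain ⟨f, hf⟩ := M.orb t t0 (ht.trans ht0.symm)
      rw [← hf, ← core_map, e, Subgroup.map_bot] at hne0
      exact hne0 rfl
    by_cases h8 : 2 ^ 3 ≤ Nat.card (E : Subgroup G)
    · obtain ⟨t, htE, ht⟩ := exists_involution_of_even (E : Subgroup G)
        (even_iff_two_dvd.2 (E.dvd_card_of_dvd_card M.two_dvd))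
      exact hne t ht (M.core_eq_bot_of_large E h8 t htE ht)
    · have hcard : ∀ P : Sylow 2 G, Nat.card (P : Subgroup G) = 4 := by
        intro P
        rw [Nat.card_congr (P.equiv E).toEquiv, hv]
        rw [hv] at h8
        have : v < 3 := by
          by_contra h
          exact h8 (Nat.pow_le_pow_right two_pos (by omega))
        rw [show v = 2 by omega]; rfl
      exact (Klein.mk M hcard (fun t u ht hu => M.conj_of_card_four E (hcard E) t u ht hu) hne).false_of_klein

end CfsgLib.Recognition.FiveOrbits
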