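import Cfsg.Agent.Lib.Recognition.FiveOrbits.Basic
import Cfsg.Agent.Lib.Involution.Basic
import Cfsg.Agent.Lib.Involution.Count

/-!
# Simple groups with five orbits in which some element has order twice an odd prime
-/

set_option autoImplicit false
set_option linter.unusedSectionVars false

open Subgroup

namespace CfsgLib.Recognition.FiveOrbits

open CfsgLib.Involution.Dihedral

/-- The element orders are exactly `1, 2, q, r, 2q`, each of them a single orbit. -/
structure Mixed (G : Type*) [Group G] (q r : ℕ) : Prop where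
  hq : q.Prime
  hr : r.Prime
  q2 : q ≠ 2
  r2 : r ≠ 2
  qr : q ≠ r
  ord : ∀ x : G, orderOf x = 1 ∨ orderOf x = 2 ∨ orderOf x = q ∨ orderOf x = r ∨ orderOf x = 2 * q
  orb : ∀ x y : G, orderOf x = orderOf y → ∃ f : MulAut G, f x = y
  mixed : ∃ x : G, orderOf x = 2 * q
  dvd : r ∣ Nat.card G
  simple : IsSimpleGroup G
  noncomm : ¬ IsMulCommutative G

/-- The number of elements of order `k`. -/
noncomputable def num (G : Type*) [Group G] (k : ℕ) : ℕ := Nat.card {x : G // orderOf x = k}

/-- The number of involutions inverting `x`. -/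
noncomputable def invNum {G : Type*} [Group G] (x : G) : ℕ :=
  Nat.card {t : G // orderOf t = 2 ∧ t * x * t⁻¹ = x⁻¹}

variable {G : Type*} [Group G] [Finite G]

theorem invNum_map (f : MulAut G) (x : G) : invNum (f x) = invNum x := by
  symm
  refine Nat.card_congr (Equiv.subtypeEquiv f.toEquiv fun t => ?_)
  show _ ↔ orderOf (f t) = 2 ∧ f t * f x * (f t)⁻¹ = (f x)⁻¹
  rw [MulEquiv.orderOf_eq, ← map_inv, ← map_inv, ← map_mul, ← map_mul, f.injective.eq_iff]

theorem card_centralizer_map (f : MulAut G) (x : G) :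
    Nat.card (centralizer ({f x} : Set G)) = Nat.card (centralizer ({x} : Set G)) := by
  symm
  refine Nat.card_congr (Equiv.subtypeEquiv f.toEquiv fun t => ?_)
  show t ∈ centralizer ({x} : Set G) ↔ f t ∈ centralizer ({f x} : Set G)
  rw [mem_centralizer_singleton_iff, mem_centralizer_singleton_iff, ← map_mul, ← map_mul,
    f.injective.eq_iff]

/-- A subgroup acting without fixed points on the elements of order `k`. -/
theorem dvd_num (P : Subgroup G) (k : ℕ)
    (h : ∀ g ∈ P, ∀ x : G, orderOf x = k → g * x = x * g → g = 1) : Nat.card P ∣ num G k := by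
  classical
  let S := {x : G // orderOf x = k}
  letI : MulAction P S :=
    { smul := fun g x => ⟨(g : G) * x.1 * (g : G)⁻¹, by rw [orderOf_conj]; exact x.2⟩
      one_smul := fun x => Subtype.ext (by
        show ((1 : P) : G) * x.1 * ((1 : P) : G)⁻¹ = x.1
        simp)
      mul_smul := fun g g' x => Subtype.ext (by
        show ((g * g' : P) : G) * x.1 * ((g * g' : P) : G)⁻¹ = _
        show _ = (g : G) * ((g' : G) * x.1 * (g' : G)⁻¹) * (g : G)⁻¹
        simp [mul_assoc]) }
  letI := Fintype.ofFinite P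
  letI := Fintype.ofFinite S
  have hst : ∀ x : S, MulAction.stabilizer P x = ⊥ := by
    intro x
    rw [eq_bot_iff]
    intro g hg
    have h1 : (g : G) * x.1 * (g : G)⁻¹ = x.1 := congrArg Subtype.val hg
    rw [mul_inv_eq_iff_eq_mul] at h1
    exact mem_bot.2 (Subtype.ext (h g g.2 x.1 x.2 h1))
  have hcard := Nat.card_congr (MulAction.selfEquivSigmaOrbitsQuotientStabilizer P S)
  rw [Nat.card_sigma] at hcard
  refine ⟨Nat.card (MulAction.orbitRel.Quotient P S), ?_⟩
  unfold num
  rw [hcard, Finset.sum_congr rfl (fun c _ => show Nat.card (P ⧸ _) = Nat.card P by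
    rw [hst, ← index_eq_card, index_bot]), Finset.sum_const, Finset.card_univ,
    ← Nat.card_eq_fintype_card, smul_eq_mul, mul_comm]

/-- Pairs of involutions sorted by the order of the product. -/
theorem card_pairs_order {k I : ℕ} (hk : 2 < k) (h : ∀ x : G, orderOf x = k → invNum x = I) :
    Nat.card {p : G × G // orderOf p.1 = 2 ∧ orderOf p.2 = 2 ∧ orderOf (p.1 * p.2) = k} =
      num G k * I := by
  classical
  letI := Fintype.ofFinite G
  let e : {p : G × G // orderOf p.1 = 2 ∧ orderOf p.2 = 2 ∧ orderOf (p.1 * p.2) = k} ≃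
      Σ x : {x : G // orderOf x = k}, {t : G // orderOf t = 2 ∧ t * x.1 * t⁻¹ = x.1⁻¹} :=
    { toFun := fun p => ⟨⟨p.1.1 * p.1.2, p.2.2.2⟩, p.1.1, p.2.1, conj_mul_left p.2.1 p.2.2.1⟩
      invFun := fun s => ⟨(s.2.1, s.2.1 * s.1.1), s.2.2.1, by
        refine orderOf_eq_two (CfsgLib.Involution.Count.mul_sq_of_inverts s.2.2.1 s.2.2.2) fun e => ?_
        have h1 := s.1.2
        rw [mul_eq_one_iff_inv_eq, inv_eq s.2.2.1] at e
        rw [← e, s.2.2.1] at h1
        omega, by
        show orderOf (s.2.1 * (s.2.1 * s.1.1)) = k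
        rw [← mul_assoc, mul_self s.2.2.1, one_mul, s.1.2]⟩
      left_inv := fun p => Subtype.ext (Prod.ext rfl (by
        show p.1.1 * (p.1.1 * p.1.2) = p.1.2
        rw [← mul_assoc, mul_self p.2.1, one_mul]))
      right_inv := fun s => by
        obtain ⟨⟨x, hx⟩, t, ht⟩ := s
        have e1 : t * (t * x) = x := by rw [← mul_assoc, mul_self ht.1, one_mul]
        refine Sigma.subtype_ext (Subtype.ext e1) ?_
        rfl }
  rw [Nat.card_congr e, Nat.card_sigma, Finset.sum_congr rfl (fun x _ => h x.1 x.2),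
    Finset.sum_const, Finset.card_univ, ← Nat.card_eq_fintype_card, smul_eq_mul]
  rfl

/-- An element of order `2^a · m`, `m` odd, inverting `c` has a power of 2-power order doing so. -/
theorem pow_inverts {x c : G} (h : x * c * x⁻¹ = c⁻¹) {m : ℕ} (hm : Odd m) :
    x ^ m * c * (x ^ m)⁻¹ = c⁻¹ := by
  obtain ⟨j, rfl⟩ := hm
  have h2 : Commute (x ^ 2) c := by
    show x ^ 2 * c = c * x ^ 2
    rw [← mul_inv_eq_iff_eq_mul]
    calc x ^ 2 * c * (x ^ 2)⁻¹ = x * (x * c * x⁻¹) * x⁻¹ := by rw [sq]; group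
      _ = (x * c * x⁻¹)⁻¹ := by
        conv_lhs => rw [h]
        group
      _ = c := by rw [h, inv_inv]
  have hj : Commute ((x ^ 2) ^ j) c := h2.pow_left j
  rw [pow_succ', pow_mul, mul_inv_rev]
  calc x * (x ^ 2) ^ j * c * (((x ^ 2) ^ j)⁻¹ * x⁻¹)
      = x * ((x ^ 2) ^ j * c * ((x ^ 2) ^ j)⁻¹) * x⁻¹ := by group
    _ = c⁻¹ := by rw [hj.eq, mul_inv_cancel_right, h]

namespace Mixed

variable {q r : ℕ} (M : Mixed G q r)
include M

theorem q3 : 3 ≤ q := by have := M.hq.two_le; have := M.q2; omega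

theorem r3 : 3 ≤ r := by have := M.hr.two_le; have := M.r2; omega

theorem odd_q : Odd q := M.hq.odd_of_ne_two M.q2

theorem odd_r : Odd r := M.hr.odd_of_ne_two M.r2

/-- An element whose order is odd has order `1`, `q` or `r`. -/
theorem ord_odd {x : G} (h : Odd (orderOf x)) : orderOf x = 1 ∨ orderOf x = q ∨ orderOf x = r := by
  have h' := Nat.odd_iff.1 h
  rcases M.ord x with h1 | h1 | h1 | h1 | h1
  · exact Or.inl h1
  · omega
  · exact Or.inr (Or.inl h1)
  · exact Or.inr (Or.inr h1)
  · omega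

theorem sq_eq_one {x : G} {k : ℕ} (h : orderOf x = 2 ^ k) : x * x = 1 := by
  have hdvd : ∀ p, p.Prime → p ∣ orderOf x → p = 2 := fun p hp hd =>
    (Nat.prime_dvd_prime_iff_eq hp Nat.prime_two).1 (hp.dvd_of_dvd_pow (h ▸ hd))
  rcases M.ord x with h1 | h1 | h1 | h1 | h1
  · rw [orderOf_eq_one_iff.1 h1, mul_one]
  · exact mul_self h1
  · exact absurd (hdvd q M.hq h1.symm.dvd) M.q2
  · exact absurd (hdvd r M.hr h1.symm.dvd) M.r2
  · exact absurd (hdvd q M.hq (h1 ▸ dvd_mul_left q 2)) M.q2

theorem sq_of_isPGroup {P : Subgroup G} (hP : IsPGroup 2 P) {x : G} (hx : x ∈ P) : x * x = 1 := by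
  obtain ⟨k, hk⟩ := IsPGroup.iff_orderOf.1 hP ⟨x, hx⟩
  rw [Subgroup.orderOf_mk] at hk
  exact M.sq_eq_one hk

/-- Two-groups are abelian. -/
theorem comm_of_isPGroup {P : Subgroup G} (hP : IsPGroup 2 P) {x y : G} (hx : x ∈ P) (hy : y ∈ P) :
    x * y = y * x := by
  have h1 := M.sq_of_isPGroup hP hx
  have h2 := M.sq_of_isPGroup hP hy
  have h3 := M.sq_of_isPGroup hP (mul_mem hx hy)
  calc x * y = x * (x * y * (x * y)) * y := by rw [h3, mul_one]
    _ = (x * x) * (y * x) * (y * y) := by group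
    _ = y * x := by rw [h1, h2, one_mul, mul_one]

/-- An element commuting with an element of order `r` has order `1` or `r`. -/
theorem ord_commute_r {x y : G} (hy : orderOf y = r) (h : Commute x y) :
    orderOf x = 1 ∨ orderOf x = r := by
  have key : ∀ z : G, Commute z y → orderOf z ≠ 2 ∧ orderOf z ≠ q := by
    intro z hz
    have aux : ∀ s : ℕ, s.Prime → s ≠ r → orderOf z = s → False := by
      intro s hs hsr e
      have hm := hz.orderOf_mul_eq_mul_orderOf_of_coprime
        (by rw [e, hy]; exact (Nat.coprime_primes hs M.hr).2 hsr)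
      rw [e, hy] at hm
      have hdr : r ∣ orderOf (z * y) := hm ▸ dvd_mul_left r s
      rcases M.ord (z * y) with h1 | h1 | h1 | h1 | h1
      · rw [h1] at hdr; exact M.hr.not_dvd_one hdr
      · rw [h1] at hdr
        exact M.r2 ((Nat.prime_dvd_prime_iff_eq M.hr Nat.prime_two).1 hdr)
      · rw [h1] at hdr
        exact M.qr ((Nat.prime_dvd_prime_iff_eq M.hr M.hq).1 hdr).symm
      · rw [h1] at hm
        exact hs.ne_one (Nat.eq_of_mul_eq_mul_right M.hr.pos (by rw [one_mul]; exact hm.symm))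
      · rw [h1] at hdr
        rcases M.hr.dvd_mul.1 hdr with d | d
        · exact M.r2 ((Nat.prime_dvd_prime_iff_eq M.hr Nat.prime_two).1 d)
        · exact M.qr ((Nat.prime_dvd_prime_iff_eq M.hr M.hq).1 d).symm
    exact ⟨aux 2 Nat.prime_two (fun e => M.r2 e.symm), aux q M.hq M.qr⟩
  rcases M.ord x with h1 | h1 | h1 | h1 | h1
  · exact Or.inl h1
  · exact absurd h1 (key x h).1
  · exact absurd h1 (key x h).2
  · exact Or.inr h1
  · refine absurd ?_ (key (x ^ q) (h.pow_left q)).1
    rw [orderOf_pow_of_dvd M.hq.ne_zero (h1 ▸ dvd_mul_left q 2), h1, Nat.mul_div_cancel _ M.hq.pos]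

/-- An element commuting with an involution has order `1`, `2`, `q` or `2q`. -/
theorem ord_commute_two {x t : G} (ht : orderOf t = 2) (h : Commute x t) : orderOf x ≠ r := fun e => by
  rcases M.ord_commute_r e h.symm with h1 | h1
  · omega
  · exact M.r2 (by omega)

theorem ord_centralizer_two {x t : G} (ht : orderOf t = 2) (h : Commute x t) :
    orderOf x = 1 ∨ orderOf x = 2 ∨ orderOf x = q ∨ orderOf x = 2 * q := by
  rcases M.ord x with h1 | h1 | h1 | h1 | h1
  · exact Or.inl h1
  · exact Or.inr (Or.inl h1)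
  · exact Or.inr (Or.inr (Or.inl h1))
  · exact absurd h1 (M.ord_commute_two ht h)
  · exact Or.inr (Or.inr (Or.inr h1))

/-- Every element of order `q` commutes with an involution. -/
theorem exists_involution_of_q {y : G} (hy : orderOf y = q) :
    ∃ t : G, orderOf t = 2 ∧ Commute t y := by
  obtain ⟨x, hx⟩ := M.mixed
  have h2 : orderOf (x ^ 2) = q := by
    rw [orderOf_pow_of_dvd two_ne_zero (hx ▸ dvd_mul_right 2 q), hx,
      Nat.mul_div_cancel_left _ two_pos]
  have hq : orderOf (x ^ q) = 2 := by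
    rw [orderOf_pow_of_dvd M.hq.ne_zero (hx ▸ dvd_mul_left q 2), hx,
      Nat.mul_div_cancel _ M.hq.pos]
  obtain ⟨f, hf⟩ := M.orb (x ^ 2) y (h2.trans hy.symm)
  refine ⟨f (x ^ q), by rw [MulEquiv.orderOf_eq]; exact hq, ?_⟩
  rw [← hf]
  exact (Commute.pow_pow_self x q 2).map f.toMonoidHom

theorem two_dvd : 2 ∣ Nat.card G := by
  obtain ⟨x, hx⟩ := M.mixed
  exact ((dvd_mul_right 2 q).trans hx.symm.dvd).trans (orderOf_dvd_natCard x)

/-- An element inverting an element of order `r` is an involution. -/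
theorem inverter_r {g y : G} (hy : orderOf y = r) (h : g * y * g⁻¹ = y⁻¹) : orderOf g = 2 := by
  have h2 : Commute (g * g) y := by
    show g * g * y = y * (g * g)
    rw [← mul_inv_eq_iff_eq_mul]
    calc g * g * y * (g * g)⁻¹ = g * (g * y * g⁻¹) * g⁻¹ := by group
      _ = (g * y * g⁻¹)⁻¹ := by
        conv_lhs => rw [h]
        group
      _ = y := by rw [h, inv_inv]
  have hne : ¬ Odd (orderOf g) := by
    intro ho
    have h1 := pow_inverts h ho
    rw [pow_orderOf_eq_one, one_mul, inv_one, mul_one] at h1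
    have h3 : y ^ 2 = 1 := by rw [sq]; nth_rewrite 2 [h1]; exact mul_inv_cancel y
    have h4 := Nat.le_of_dvd two_pos (orderOf_dvd_of_pow_eq_one h3)
    have := M.r3
    omega
  rcases M.ord g with h1 | h1 | h1 | h1 | h1
  · exact absurd (h1 ▸ odd_one) hne
  · exact h1
  · exact absurd (h1 ▸ M.odd_q) hne
  · exact absurd (h1 ▸ M.odd_r) hne
  · exfalso
    have h3 : orderOf (g * g) = q := by
      rw [← pow_two, orderOf_pow_of_dvd two_ne_zero (h1 ▸ dvd_mul_right 2 q), h1,
        Nat.mul_div_cancel_left _ two_pos]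
    rcases M.ord_commute_r hy h2 with h4 | h4
    · exact M.hq.ne_one (h3 ▸ h4)
    · exact M.qr (h3 ▸ h4)

/-- The number of involutions inverting an element of order `r`. -/
theorem invNum_r {y : G} (hy : orderOf y = r) :
    invNum y = 0 ∨ invNum y = Nat.card (centralizer ({y} : Set G)) := by
  by_cases h : IsConj y y⁻¹
  · right
    rw [← CfsgLib.Involution.Count.card_inverting y h]
    exact Nat.card_congr (Equiv.subtypeEquivRight fun t =>
      ⟨fun ht => ht.2, fun ht => ⟨M.inverter_r hy ht, ht⟩⟩)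
  · left
    haveI : IsEmpty {t : G // orderOf t = 2 ∧ t * y * t⁻¹ = y⁻¹} :=
      ⟨fun t => h (isConj_iff.2 ⟨_, t.2.2⟩)⟩
    exact Nat.card_of_isEmpty

theorem invNum_eq {x y : G} (h : orderOf x = orderOf y) : invNum x = invNum y := by
  obtain ⟨f, rfl⟩ := M.orb x y h
  exact (invNum_map f x).symm

theorem card_centralizer_eq {x y : G} (h : orderOf x = orderOf y) :
    Nat.card (centralizer ({x} : Set G)) = Nat.card (centralizer ({y} : Set G)) := by
  obtain ⟨f, rfl⟩ := M.orb x y h
  exact (card_centralizer_map f x).symm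

end Mixed

end CfsgLib.Recognition.FiveOrbits
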