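import Cfsg.Agent.Lib.Recognition.FiveOrbits.Mixed.Cores
import Cfsg.Agent.Lib.Coprime.Action
import Cfsg.Agent.S0217

/-!
# The mixed case with a Sylow 2-subgroup of order at least eight
-/

set_option autoImplicit false
set_option linter.unusedSectionVars false

open Subgroup
open scoped commutatorElement

namespace CfsgLib.Recognition.FiveOrbits

variable {G : Type*} [Group G] [Finite G]

namespace Mixed

variable {q r : ℕ} (M : Mixed G q r)
include M

theorem two_not_dvd_core (t : G) : ¬ 2 ∣ Nat.card (core q t) := by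
  haveI : Fact q.Prime := ⟨M.hq⟩
  obtain ⟨k, hk⟩ := IsPGroup.iff_card.1 (isPGroup_core q t)
  rw [hk]
  exact fun h => M.q2 ((Nat.prime_dvd_prime_iff_eq Nat.prime_two M.hq).1
    (Nat.prime_two.dvd_of_dvd_pow h)).symm

/-- If the cores of the involutions of `E` generate a group of odd order, they are trivial. -/
theorem absurd_of_odd_iSup (E : Sylow 2 G) {a0 : G} (ha0 : a0 ∈ E) (ha02 : orderOf a0 = 2)
    (hne : core q a0 ≠ ⊥)
    (hodd : ¬ 2 ∣ Nat.card ↥(⨆ a : {a : G // a ∈ (E : Subgroup G) ∧ a ≠ 1}, core q a.1)) : False := by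
  set K := ⨆ a : {a : G // a ∈ (E : Subgroup G) ∧ a ≠ 1}, core q a.1 with hK
  have hconj : ∀ g ∈ normalizer ((E : Subgroup G) : Set G), ∀ x ∈ K, g * x * g⁻¹ ∈ K := by
    intro g hg x hx
    have hle : K.map (MulAut.conj g).toMonoidHom ≤ K := by
      rw [hK, Subgroup.map_iSup]
      refine iSup_le fun a => ?_
      rw [core_map]
      exact le_iSup (fun a : {a : G // a ∈ (E : Subgroup G) ∧ a ≠ 1} => core q a.1)
        ⟨g * a.1 * g⁻¹, (mem_normalizer_iff.1 hg a.1).1 a.2.1,
          fun e => a.2.2 (conj_eq_one_iff.1 e)⟩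
    exact hle ⟨x, hx, rfl⟩
  have hN : normalizer ((E : Subgroup G) : Set G) ≤ normalizer (K : Set G) := by
    intro g hg
    rw [mem_normalizer_iff]
    exact fun x => ⟨hconj g hg x, fun hx => by simpa [mul_assoc] using hconj g⁻¹ (inv_mem hg) _ hx⟩
  have hC : ∀ a ∈ E, orderOf a = 2 → centralizer ({a} : Set G) ≤ normalizer (K : Set G) := by
    intro a ha ha2 x hx
    obtain ⟨w, hw, n, -, hn, rfl⟩ := M.decomp E ha ha2 hx
    exact mul_mem (le_normalizer (le_iSup (fun a : {a : G // a ∈ (E : Subgroup G) ∧ a ≠ 1} => core q a.1)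
      ⟨a, ha, CfsgLib.Involution.Dihedral.ne_one ha2⟩ hw)) (hN hn)
  have hKne : K ≠ ⊥ := fun e => hne (le_bot_iff.1 (e ▸ le_iSup
    (fun a : {a : G // a ∈ (E : Subgroup G) ∧ a ≠ 1} => core q a.1)
      ⟨a0, ha0, CfsgLib.Involution.Dihedral.ne_one ha02⟩))
  have hNtop : normalizer (K : Set G) ≠ ⊤ := by
    intro h
    haveI := M.simple
    haveI : K.Normal := normalizer_eq_top_iff.1 h
    rcases Subgroup.Normal.eq_bot_or_eq_top (inferInstance : K.Normal) with e | e
    · exact hKne e
    · rw [e, card_top] at hodd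
      exact hodd M.two_dvd
  exact M.not_stronglyEmbedded (stronglyEmbedded_of E _ hNtop M.two_dvd M.sylow_comm hN hC)
    le_normalizer le_rfl ((Nat.prime_two.coprime_iff_not_dvd.2 hodd).symm) hKne

/-- For `|E| ≥ 8` all the cores are trivial. -/
theorem core_eq_bot_of_large (E : Sylow 2 G) (h8 : 2 ^ 3 ≤ Nat.card (E : Subgroup G)) :
    ∀ a ∈ E, orderOf a = 2 → core q a = ⊥ := by
  classical
  haveI : Fact (Nat.Prime 2) := ⟨Nat.prime_two⟩
  haveI : Fact q.Prime := ⟨M.hq⟩
  intro a0 ha0 ha02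
  by_contra hne
  have hord : ∀ a ∈ E, a ≠ 1 → orderOf a = 2 := fun a ha h1 =>
    CfsgLib.Involution.Dihedral.orderOf_eq_two (M.sq_of_isPGroup E.isPGroup' ha) h1
  have hEC : ∀ a ∈ E, (E : Subgroup G) ≤ centralizer ({a} : Set G) :=
    fun a ha => M.sylow_le_centralizer E ha
  have hsolv : ∀ a : G, Group.IsSolvable (core q a) := fun a => by
    haveI := (isPGroup_core q a : IsPGroup q (core q a)).isNilpotent
    infer_instance
  have hbal : ∀ a ∈ (E : Subgroup G), a ≠ 1 → ∀ b ∈ (E : Subgroup G), b ≠ 1 →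
      core q a ⊓ centralizer ({b} : Set G) ≤ core q b := by
    intro a ha ha1 b hb hb1
    set X := core q a ⊓ centralizer ({b} : Set G) with hX
    have hEX : (E : Subgroup G) ≤ normalizer (X : Set G) :=
      (le_inf ((hEC a ha).trans (centralizer_le_normalizer_core q a))
        ((hEC b hb).trans le_normalizer)).trans inf_normalizer_le_normalizer_inf
    have hXp : IsPGroup q X := (isPGroup_core q a).to_le inf_le_left
    have hcop : (Nat.card (E : Subgroup G)).Coprime (Nat.card X) :=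
      IsPGroup.coprime_card_of_ne 2 q (fun h => M.q2 h.symm) _ _ E.isPGroup' hXp
    have h1 := CfsgLib.Coprime.commutator_sup_centralizer hEX hcop
      (Or.inr (CfsgLib.Coprime.isSolvable_of_le inf_le_left (hsolv a)))
    rw [← h1, M.centralizer_sylow E]
    refine sup_le (commutator_le.2 fun x hx e he => ?_) ?_
    · obtain ⟨k, hk⟩ := IsPGroup.iff_orderOf.1 hXp
        ⟨⁅x, e⁆, le_normalizer_iff_commutator_le_left.1 hEX (commutator_mem_commutator hx he)⟩
      rw [Subgroup.orderOf_mk] at hk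
      refine M.mem_core_of_mem_sup E hb hk ?_
      obtain ⟨w, hw, n, -, hn, rfl⟩ := M.decomp E hb (hord b hb hb1) (inf_le_right (a := core q a) hx)
      rw [commutatorElement_def, show w * n * e * (w * n)⁻¹ * e⁻¹ =
        w * (n * e * n⁻¹) * w⁻¹ * e⁻¹ by group]
      exact mul_mem (mul_mem (mul_mem (mem_sup_left hw)
        (mem_sup_right ((mem_normalizer_iff.1 hn e).1 he))) (inv_mem (mem_sup_left hw)))
        (inv_mem (mem_sup_right he))
    · rw [inf_comm, disjoint_iff.1 (disjoint_of_coprime_natCard hcop)]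
      exact bot_le
  obtain ⟨hodd, -⟩ := Cfsg.Agent.S0217.result (p := 2) (E : Subgroup G) (M.sylow_comm E)
    (fun a ha => by rw [pow_two]; exact M.sq_of_isPGroup E.isPGroup' ha) h8 (core q)
    (fun a _ _ => core_le q a) (fun a _ _ => M.two_not_dvd_core a)
    (fun a ha _ b hb x hx => (mem_normalizer_iff.1 (centralizer_le_normalizer_core q a (hEC a ha hb)) x).1 hx)
    (fun a _ _ => hsolv a) hbal
  exact M.absurd_of_odd_iSup E ha0 ha02 hne hodd

end Mixed

end CfsgLib.Recognition.FiveOrbits
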