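import Cfsg.Agent.Lib.Recognition.FiveOrbits.Mixed.Setup
import Cfsg.Agent.Lib.Derangements.Basic
import Cfsg.Agent.Lib.Solvable.Cores
import Cfsg.Agent.S1221

/-!
# Sylow 2-subgroups are self-centralising in the mixed case
-/

set_option autoImplicit false
set_option linter.unusedSectionVars false

open Subgroup
open scoped Pointwise

namespace CfsgLib.Recognition.FiveOrbits

open CfsgLib.Involution.Dihedral CfsgLib.Involution.Basic

variable {G : Type*} [Group G] [Finite G]

/-- Sylow subgroups inside a subgroup are conjugate in it. -/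
theorem exists_smul_eq_in {p : ℕ} [Fact p.Prime] {H : Subgroup G} {P Q : Sylow p G}
    (hP : (P : Subgroup G) ≤ H) (hQ : (Q : Subgroup G) ≤ H) : ∃ h ∈ H, h • P = Q := by
  obtain ⟨h, hh⟩ := MulAction.exists_smul_eq H (P.subtype hP) (Q.subtype hQ)
  rw [Sylow.smul_subtype] at hh
  exact ⟨h, h.2, Sylow.subtype_injective hh⟩

/-- In a subgroup containing a Sylow subgroup, `p`-subgroups lie in conjugates of it. -/
theorem exists_smul_ge {p : ℕ} [Fact p.Prime] {H : Subgroup G} {P : Sylow p G}
    (hP : (P : Subgroup G) ≤ H) {D : Subgroup G} (hD : IsPGroup p D) (hDH : D ≤ H) :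
    ∃ h ∈ H, D ≤ ((h • P : Sylow p G) : Subgroup G) := by
  obtain ⟨g, hg⟩ := exists_conj_le (P.subtype hP) (hD.of_equiv (subgroupOfEquivOfLe hDH).symm)
  refine ⟨((g⁻¹ : H) : G), (g⁻¹).2, fun x hx => ?_⟩
  have h1 := hg ⟨x, hDH hx⟩ (by simpa [mem_subgroupOf] using hx)
  change ((g * ⟨x, hDH hx⟩ * g⁻¹ : H) : G) ∈ (P : Subgroup G) at h1
  exact mem_smul_sylow_iff.2 (show _ ∈ (P : Subgroup G) by simpa using h1)

theorem smul_le_of_mem {p : ℕ} {H : Subgroup G} {P : Sylow p G} (hP : (P : Subgroup G) ≤ H)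
    {h : G} (hh : h ∈ H) : ((h • P : Sylow p G) : Subgroup G) ≤ H :=
  Sylow.smul_le hP ⟨h, hh⟩

/-- A subgroup containing the normaliser of an abelian Sylow 2-subgroup and the centralisers of
its involutions is strongly embedded. -/
theorem stronglyEmbedded_of (E : Sylow 2 G) (H : Subgroup G) (hne : H ≠ ⊤) (h2 : 2 ∣ Nat.card G)
    (habel : ∀ P : Sylow 2 G, ∀ x ∈ P, ∀ y ∈ P, x * y = y * x)
    (hN : normalizer ((E : Subgroup G) : Set G) ≤ H)
    (hC : ∀ a ∈ E, orderOf a = 2 → centralizer ({a} : Set G) ≤ H) :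
    Cfsg.IsStronglyEmbedded H := by
  haveI : Fact (Nat.Prime 2) := ⟨Nat.prime_two⟩
  have hEH : (E : Subgroup G) ≤ H := le_normalizer.trans hN
  refine ⟨hne, even_iff_two_dvd.2 ((E.dvd_card_of_dvd_card h2).trans (card_dvd_of_le hEH)),
    fun g hg => ?_⟩
  by_contra hodd
  obtain ⟨v, ⟨hvH, hvg⟩, hv⟩ := exists_involution_of_even _ (Nat.not_odd_iff_even.1 hodd)
  obtain ⟨w, hwH, hwv⟩ := hvg
  simp only [MulEquiv.coe_toMonoidHom, MulAut.conj_apply] at hwv
  have hw : orderOf w = 2 := by rw [← orderOf_conj g w, hwv, hv]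
  have key : ∀ u ∈ H, orderOf u = 2 → centralizer ({u} : Set G) ≤ H := by
    intro u hu hu2
    obtain ⟨h, hh, hle⟩ := exists_smul_ge hEH (isPGroup_zpowers_of_two hu2)
      (zpowers_le.2 hu)
    have ha := mem_smul_sylow_iff.1 (hle (mem_zpowers u))
    intro c hc
    have h1 : h⁻¹ * c * h ∈ centralizer ({h⁻¹ * u * h} : Set G) := by
      have e := mem_centralizer_singleton_iff.1 hc
      rw [mem_centralizer_singleton_iff]
      calc h⁻¹ * c * h * (h⁻¹ * u * h) = h⁻¹ * (c * u) * h := by group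
        _ = h⁻¹ * (u * c) * h := by rw [e]
        _ = h⁻¹ * u * h * (h⁻¹ * c * h) := by group
    have h2' := hC _ ha (by
      have := orderOf_conj h⁻¹ u
      rw [inv_inv] at this
      rw [this, hu2]) h1
    simpa [mul_assoc] using H.mul_mem (H.mul_mem hh h2') (H.inv_mem hh)
  obtain ⟨E', hE'⟩ := (isPGroup_zpowers_of_two hv).exists_le_sylow
  have hvE' : v ∈ E' := hE' (mem_zpowers v)
  have hE'H : (E' : Subgroup G) ≤ H := fun x hx =>
    key v hvH hv (mem_centralizer_singleton_iff.2 (habel E' x hx v hvE'))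
  have hE'gH : ((g⁻¹ • E' : Sylow 2 G) : Subgroup G) ≤ H := by
    intro y hy
    rw [show y ∈ ((g⁻¹ • E' : Sylow 2 G) : Subgroup G) ↔ y ∈ g⁻¹ • E' from Iff.rfl,
      mem_smul_sylow_iff] at hy
    refine key w hwH hw (mem_centralizer_singleton_iff.2 ?_)
    have h1 := habel E' _ hy v hvE'
    rw [← hwv] at h1
    simp only [inv_inv] at h1
    have h2 : g * (y * w) * g⁻¹ = g * (w * y) * g⁻¹ := by
      calc g * (y * w) * g⁻¹ = g * y * g⁻¹ * (g * w * g⁻¹) := by group
        _ = g * w * g⁻¹ * (g * y * g⁻¹) := h1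
        _ = g * (w * y) * g⁻¹ := by group
    exact mul_left_cancel (mul_right_cancel h2)
  obtain ⟨a, ha, ha'⟩ := exists_smul_eq_in hEH hE'H
  obtain ⟨b, hb, hb'⟩ := exists_smul_eq_in hEH hE'gH
  have h3 : (b⁻¹ * g⁻¹ * a) • E = E := by
    rw [mul_smul, mul_smul, ha', ← hb', inv_smul_smul]
  have h4 : b⁻¹ * g⁻¹ * a ∈ H := hN (Sylow.smul_eq_iff_mem_normalizer.1 h3)
  have h5 : g⁻¹ ∈ H := by
    have := H.mul_mem (H.mul_mem hb h4) (H.inv_mem ha)
    simpa [mul_assoc] using this
  exact hg (by simpa using H.inv_mem h5)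

namespace Mixed

variable {q r : ℕ} (M : Mixed G q r)
include M

theorem not_isPGroup_top : ¬ IsPGroup 2 (⊤ : Subgroup G) := by
  intro h
  haveI := M.simple
  haveI : Fact (Nat.Prime 2) := ⟨Nat.prime_two⟩
  obtain ⟨k, hk⟩ := h.exists_card_eq
  rw [card_top] at hk
  have := (Nat.prime_dvd_prime_iff_eq M.hr Nat.prime_two).1 (M.hr.dvd_of_dvd_pow (hk ▸ M.dvd))
  exact M.r2 this

theorem sylow_ne_bot (E : Sylow 2 G) : (E : Subgroup G) ≠ ⊥ :=
  haveI : Fact (Nat.Prime 2) := ⟨Nat.prime_two⟩
  E.ne_bot_of_dvd_card M.two_dvd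

theorem normalizer_sylow_ne_top (E : Sylow 2 G) : normalizer ((E : Subgroup G) : Set G) ≠ ⊤ := by
  intro h
  haveI := M.simple
  haveI : (E : Subgroup G).Normal := normalizer_eq_top_iff.1 h
  rcases Subgroup.Normal.eq_bot_or_eq_top (inferInstance : (E : Subgroup G).Normal) with e | e
  · exact M.sylow_ne_bot E e
  · exact M.not_isPGroup_top (e ▸ E.isPGroup')

theorem sylow_comm (E : Sylow 2 G) : ∀ x ∈ E, ∀ y ∈ E, x * y = y * x :=
  fun _ hx _ hy => M.comm_of_isPGroup E.isPGroup' hx hy

theorem sylow_le_centralizer (E : Sylow 2 G) {t : G} (ht : t ∈ E) :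
    (E : Subgroup G) ≤ centralizer ({t} : Set G) :=
  fun _ hx => mem_centralizer_singleton_iff.2 (M.sylow_comm E _ hx _ ht)

theorem oddCore_eq_bot : Cfsg.oddCore G = ⊥ := by
  haveI := M.simple
  rcases Subgroup.Normal.eq_bot_or_eq_top (inferInstance : (Cfsg.oddCore G).Normal) with e | e
  · exact e
  · have h := CfsgLib.Solvable.Cores.coprime_card_pPrimeCore (G := G) 2
    rw [show Cfsg.pPrimeCore 2 G = ⊤ from e, card_top] at h
    exact absurd (Nat.Coprime.eq_one_of_dvd (Nat.Coprime.symm h) M.two_dvd) (by norm_num)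

/-- A nontrivial normal subgroup of odd order in a strongly embedded subgroup is impossible. -/
theorem not_stronglyEmbedded {H K : Subgroup G} (hH : Cfsg.IsStronglyEmbedded H) (hKH : K ≤ H)
    (hK : H ≤ normalizer (K : Set G)) (hodd : (Nat.card K).Coprime 2) (hne : K ≠ ⊥) : False := by
  haveI : (K.subgroupOf H).Normal := (normal_subgroupOf_iff_le_normalizer hKH).2 hK
  have h1 : K.subgroupOf H ≤ Cfsg.pPrimeCore 2 H := CfsgLib.Solvable.Cores.le_pPrimeCore (by
    rw [Nat.card_congr (subgroupOfEquivOfLe hKH).toEquiv]; exact hodd)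
  have h2 := (Subgroup.map_mono (f := H.subtype) h1).trans (Cfsg.Agent.S1221.result H hH)
  rw [map_subgroupOf_eq_of_le hKH, M.oddCore_eq_bot, le_bot_iff] at h2
  exact hne h2

/-- A Sylow 2-subgroup centralises no element of order `q`. -/
theorem not_sylow_le_centralizer {c : G} (hc : orderOf c = q) (E : Sylow 2 G) :
    ¬ (E : Subgroup G) ≤ centralizer ({c} : Set G) := by
  haveI : Fact (Nat.Prime 2) := ⟨Nat.prime_two⟩
  intro hEc
  have hall : ∀ x : G, orderOf x = q → ∀ D : Subgroup G, IsPGroup 2 D →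
      D ≤ centralizer ({x} : Set G) →
      ∃ P : Sylow 2 G, D ≤ (P : Subgroup G) ∧ (P : Subgroup G) ≤ centralizer ({x} : Set G) := by
    intro x hx D hD hDx
    obtain ⟨f, hf⟩ := M.orb c x (hc.trans hx.symm)
    let P0 : Sylow 2 G := E.mapSurjective (f := f.toMonoidHom) f.surjective
    have hP0 : (P0 : Subgroup G) ≤ centralizer ({x} : Set G) := by
      intro z hz
      rw [show (P0 : Subgroup G) = (E : Subgroup G).map f.toMonoidHom from Sylow.coe_mapSurjective _ _] at hz
      obtain ⟨e, he, rfl⟩ := hz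
      have := mem_centralizer_singleton_iff.1 (hEc he)
      rw [mem_centralizer_singleton_iff, ← hf]
      show f e * f c = f c * f e
      rw [← map_mul, ← map_mul, this]
    obtain ⟨h, hh, hle⟩ := exists_smul_ge hP0 hD hDx
    exact ⟨h • P0, hle, smul_le_of_mem hP0 hh⟩
  have hcen : ∀ P : Sylow 2 G, ∀ t ∈ P, orderOf t = 2 →
      centralizer ({t} : Set G) = centralizer ((P : Subgroup G) : Set G) := by
    intro P t htP ht
    have hle : centralizer ((P : Subgroup G) : Set G) ≤ centralizer ({t} : Set G) :=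
      centralizer_le (Set.singleton_subset_iff.2 htP)
    refine le_antisymm ?_ hle
    have htop : (centralizer ((P : Subgroup G) : Set G)).subgroupOf (centralizer ({t} : Set G)) = ⊤ := by
      by_contra hne
      obtain ⟨x, hx⟩ := CfsgLib.Derangements.Basic.exists_notMem_conj hne
      have hxt : Commute (x : G) t := mem_centralizer_singleton_iff.1 x.2
      obtain ⟨Q, htQ, hxQ⟩ : ∃ Q : Sylow 2 G, t ∈ Q ∧ (x : G) ∈ centralizer ((Q : Subgroup G) : Set G) := by
        rcases M.ord_centralizer_two ht hxt with h1 | h1 | h1 | h1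
        · exact ⟨P, htP, by rw [orderOf_eq_one_iff.1 h1]; exact one_mem _⟩
        · obtain ⟨Q, hQ⟩ := (isPGroup_of_commute h1 ht hxt).exists_le_sylow
          exact ⟨Q, hQ (mem_sup_right (mem_zpowers t)),
            fun y hy => M.sylow_comm Q y hy _ (hQ (mem_sup_left (mem_zpowers _)))⟩
        · obtain ⟨Q, hQ, hQx⟩ := hall _ h1 (zpowers t) (isPGroup_zpowers_of_two ht)
            (zpowers_le.2 (mem_centralizer_singleton_iff.2 hxt.symm))
          exact ⟨Q, hQ (mem_zpowers t), fun y hy => mem_centralizer_singleton_iff.1 (hQx hy)⟩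
        · have hu : orderOf ((x : G) ^ q) = 2 := by
            rw [orderOf_pow_of_dvd M.hq.ne_zero (h1 ▸ dvd_mul_left q 2), h1,
              Nat.mul_div_cancel _ M.hq.pos]
          have hy : orderOf ((x : G) ^ 2) = q := by
            rw [orderOf_pow_of_dvd two_ne_zero (h1 ▸ dvd_mul_right 2 q), h1,
              Nat.mul_div_cancel_left _ two_pos]
          obtain ⟨Q, hQ, hQy⟩ := hall _ hy _ (isPGroup_of_commute ht hu (hxt.symm.pow_right q))
            (sup_le (zpowers_le.2 (mem_centralizer_singleton_iff.2 (hxt.symm.pow_right 2)))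
              (zpowers_le.2 (mem_centralizer_singleton_iff.2 (Commute.pow_pow_self (x : G) q 2))))
          refine ⟨Q, hQ (mem_sup_left (mem_zpowers t)), fun y hy' => ?_⟩
          have c1 : Commute y ((x : G) ^ 2) := mem_centralizer_singleton_iff.1 (hQy hy')
          have c2 : Commute y ((x : G) ^ q) :=
            M.sylow_comm Q y hy' _ (hQ (mem_sup_right (mem_zpowers _)))
          obtain ⟨j, hj⟩ := M.odd_q
          have e : (x : G) = (x : G) ^ q * (((x : G) ^ 2) ^ j)⁻¹ := by
            rw [← pow_mul, eq_mul_inv_iff_mul_eq, ← pow_succ', hj]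
          show y * x = x * y
          rw [e]
          exact (c2.mul_right (c1.pow_right j).inv_right).eq
      have hPt := M.sylow_le_centralizer P htP
      obtain ⟨l, hl, hl'⟩ := exists_smul_eq_in (M.sylow_le_centralizer Q htQ) hPt
      refine hx ⟨l, hl⟩ ?_
      rw [mem_subgroupOf, mem_centralizer_iff]
      intro y hy
      have hy' : l⁻¹ * y * l ∈ Q := by
        rw [← mem_smul_sylow_iff, hl']
        exact hy
      have e := mem_centralizer_iff.1 hxQ _ hy'
      show y * (l * x * l⁻¹) = l * x * l⁻¹ * y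
      calc y * (l * x * l⁻¹) = l * ((l⁻¹ * y * l) * x) * l⁻¹ := by group
        _ = l * ((x : G) * (l⁻¹ * y * l)) * l⁻¹ := by rw [e]
        _ = l * x * l⁻¹ * y := by group
    exact subgroupOf_eq_top.1 htop
  set H := normalizer ((E : Subgroup G) : Set G) with hH
  have hse : Cfsg.IsStronglyEmbedded H := stronglyEmbedded_of E H (M.normalizer_sylow_ne_top E)
    M.two_dvd M.sylow_comm le_rfl (fun a ha ha2 => by
      rw [hcen E a ha ha2]; exact centralizer_le_normalizer _)
  set C := (centralizer ((E : Subgroup G) : Set G)).subgroupOf H with hCdef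
  have hCH : centralizer ((E : Subgroup G) : Set G) ≤ H := centralizer_le_normalizer _
  haveI : C.Normal := by
    rw [hCdef, normal_subgroupOf_iff_le_normalizer hCH]
    intro g hg
    rw [mem_normalizer_iff]
    have hmem : ∀ g ∈ H, ∀ x ∈ centralizer ((E : Subgroup G) : Set G),
        g * x * g⁻¹ ∈ centralizer ((E : Subgroup G) : Set G) := by
      intro g hg x hx
      rw [mem_centralizer_iff]
      intro y hy
      have h1 : g⁻¹ * y * g ∈ (E : Subgroup G) := by
        have := (mem_normalizer_iff.1 (H.inv_mem hg) y).1 hy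
        simpa using this
      have e := mem_centralizer_iff.1 hx _ h1
      calc y * (g * x * g⁻¹) = g * ((g⁻¹ * y * g) * x) * g⁻¹ := by group
        _ = g * (x * (g⁻¹ * y * g)) * g⁻¹ := by rw [e]
        _ = g * x * g⁻¹ * y := by group
    exact fun x => ⟨hmem g hg x, fun h => by
      simpa [mul_assoc] using hmem g⁻¹ (H.inv_mem hg) _ h⟩
  have hEH : (E : Subgroup G) ≤ H := le_normalizer
  have hEC : ((E.subtype hEH : Sylow 2 H) : Subgroup H) ≤ C := by
    intro x hx
    exact fun y hy => M.sylow_comm E y hy x hx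
  let P : Sylow 2 C := (E.subtype hEH).subtype hEC
  have hP : normalizer ((P : Subgroup C) : Set C) ≤ centralizer ((P : Subgroup C) : Set C) := by
    intro x _
    rw [mem_centralizer_iff]
    intro y hy
    exact Subtype.ext (Subtype.ext (mem_centralizer_iff.1 x.2 _ hy))
  set K := (MonoidHom.transferSylow P hP).ker
  have hK2 : (Nat.card K).Coprime 2 :=
    ((Nat.prime_two.coprime_iff_not_dvd).2 (MonoidHom.not_dvd_card_ker_transferSylow P hP)).symm
  have hcC : c ∈ centralizer ((E : Subgroup G) : Set G) :=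
    fun y hy => mem_centralizer_singleton_iff.1 (hEc hy)
  let c' : C := ⟨⟨c, hCH hcC⟩, hcC⟩
  have hc' : orderOf c' = q := by
    rw [← Subgroup.orderOf_coe, ← Subgroup.orderOf_coe]
    exact hc
  have hcK : c' ∈ K := by
    rw [MonoidHom.mem_ker, ← orderOf_eq_one_iff]
    obtain ⟨k, hk⟩ := IsPGroup.iff_orderOf.1 P.isPGroup' (MonoidHom.transferSylow P hP c')
    have h1 := orderOf_map_dvd (MonoidHom.transferSylow P hP) c'
    rw [hc', hk] at h1
    rw [hk]
    rcases (Nat.dvd_prime M.hq).1 h1 with h2 | h2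
    · exact h2
    · exact absurd ((Nat.prime_dvd_prime_iff_eq M.hq Nat.prime_two).1
        (M.hq.dvd_of_dvd_pow h2.symm.dvd)) M.q2
  have hKle := CfsgLib.Solvable.Cores.le_pPrimeCore (p := 2) hK2
  have h1 : (Cfsg.pPrimeCore 2 C).map C.subtype ≤ Cfsg.pPrimeCore 2 H :=
    CfsgLib.Solvable.Cores.le_pPrimeCore
      ((CfsgLib.Solvable.Cores.coprime_card_pPrimeCore 2).coprime_dvd_left (card_map_dvd _ _))
  have h2 := (Subgroup.map_mono (f := H.subtype) h1).trans (Cfsg.Agent.S1221.result H hse)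
  rw [M.oddCore_eq_bot] at h2
  have h3 := h2 (mem_map_of_mem H.subtype (mem_map_of_mem C.subtype (hKle hcK)))
  rw [mem_bot] at h3
  exact M.hq.ne_one (by rw [← hc, show c = 1 from h3, orderOf_one])

/-- Sylow 2-subgroups are self-centralising. -/
theorem centralizer_sylow (E : Sylow 2 G) :
    centralizer ((E : Subgroup G) : Set G) = (E : Subgroup G) := by
  haveI : Fact (Nat.Prime 2) := ⟨Nat.prime_two⟩
  refine le_antisymm (fun x hx => ?_) fun x hx y hy => M.sylow_comm E y hy x hx
  obtain ⟨t, htE, ht⟩ := exists_involution_of_even (E : Subgroup G)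
    (even_iff_two_dvd.2 (E.dvd_card_of_dvd_card M.two_dvd))
  have hxt : Commute x t := (mem_centralizer_iff.1 hx t htE).symm
  have hq' : ∀ y : G, orderOf y = q → y ∈ centralizer ((E : Subgroup G) : Set G) → False :=
    fun y hy hyE => M.not_sylow_le_centralizer hy E fun z hz =>
      mem_centralizer_singleton_iff.2 (mem_centralizer_iff.1 hyE z hz)
  rcases M.ord_centralizer_two ht hxt with h1 | h1 | h1 | h1
  · rw [orderOf_eq_one_iff.1 h1]; exact one_mem _
  · have hle : IsPGroup 2 ↥((E : Subgroup G) ⊔ zpowers x) :=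
      IsPGroup.to_sup_of_normal_left' E.isPGroup' (isPGroup_zpowers_of_two h1)
        (zpowers_le.2 (centralizer_le_normalizer _ hx))
    exact (E.is_maximal' hle le_sup_left) ▸ mem_sup_right (mem_zpowers x)
  · exact (hq' x h1 hx).elim
  · refine (hq' (x ^ 2) ?_ (pow_mem hx 2)).elim
    rw [orderOf_pow_of_dvd two_ne_zero (h1 ▸ dvd_mul_right 2 q), h1,
      Nat.mul_div_cancel_left _ two_pos]

end Mixed

end CfsgLib.Recognition.FiveOrbits
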